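import Cfsg.Agent.Lib.Fusion.PPrimeCentric
import Cfsg.Agent.Lib.PLocal.PSolvable
import Cfsg.Agent.Lib.Transfer.PResidual
import Cfsg.Prelude.Def_Local

/-!
# The two candidate subgroups of the automizer of `T`
-/

set_option autoImplicit false

namespace CfsgLib.Fusion.Envelope

variable {G : Type*} [Group G] {p : ℕ}

/-- `O^p(A)` inside the group. -/
def opRes (p : ℕ) (A : Subgroup G) : Subgroup G := (Cfsg.pResidual p A).map A.subtype

/-- `O^{p'}(A)` inside the group. -/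
def oppRes (p : ℕ) (A : Subgroup G) : Subgroup G :=
  (Subgroup.closure {α : A | ∃ k : ℕ, orderOf α = p ^ k}).map A.subtype

theorem opRes_le (p : ℕ) (A : Subgroup G) : opRes p A ≤ A := Subgroup.map_subtype_le _

theorem oppRes_le (p : ℕ) (A : Subgroup G) : oppRes p A ≤ A := Subgroup.map_subtype_le _

theorem conj_mem_opRes {A : Subgroup G} {γ : G} (hγ : ∀ α ∈ A, γ * α * γ⁻¹ ∈ A) {β : G}
    (hβ : β ∈ opRes p A) : γ * β * γ⁻¹ ∈ opRes p A := by
  rw [opRes, CfsgLib.Transfer.map_subtype_pResidual] at hβ ⊢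
  suffices h : (Subgroup.closure {g : G | g ∈ A ∧ (orderOf g).Coprime p}).map (MulAut.conj γ).toMonoidHom
      ≤ Subgroup.closure {g : G | g ∈ A ∧ (orderOf g).Coprime p} from h ⟨β, hβ, rfl⟩
  rw [MonoidHom.map_closure]
  refine Subgroup.closure_mono ?_
  rintro _ ⟨g, ⟨hg, hg'⟩, rfl⟩
  refine ⟨hγ g hg, ?_⟩
  rwa [show orderOf ((MulAut.conj γ).toMonoidHom g) = orderOf g from (MulAut.conj γ).orderOf_eq g]

theorem conj_mem_oppRes {A : Subgroup G} {γ : G} (hγ : ∀ α ∈ A, γ * α * γ⁻¹ ∈ A) {β : G}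
    (hβ : β ∈ oppRes p A) : γ * β * γ⁻¹ ∈ oppRes p A := by
  suffices h : (oppRes p A).map (MulAut.conj γ).toMonoidHom ≤ oppRes p A from h ⟨β, hβ, rfl⟩
  rw [oppRes, Subgroup.map_map, MonoidHom.map_closure, Subgroup.closure_le]
  rintro _ ⟨g, ⟨k, hk⟩, rfl⟩
  refine ⟨⟨γ * g * γ⁻¹, hγ g g.2⟩, Subgroup.subset_closure ⟨k, ?_⟩, rfl⟩
  rw [← Subgroup.orderOf_coe] at hk ⊢
  exact ((MulAut.conj γ).orderOf_eq (g : G)).trans hk

theorem conj_mem_sup {M N : Subgroup G} {γ : G} (hM : ∀ β ∈ M, γ * β * γ⁻¹ ∈ M)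
    (hN : ∀ β ∈ N, γ * β * γ⁻¹ ∈ N) : ∀ β ∈ M ⊔ N, γ * β * γ⁻¹ ∈ M ⊔ N := by
  intro β hβ
  suffices h : (M ⊔ N).map (MulAut.conj γ).toMonoidHom ≤ M ⊔ N from h ⟨β, hβ, rfl⟩
  rw [Subgroup.map_sup]
  refine sup_le_sup ?_ ?_
  · rintro _ ⟨x, hx, rfl⟩; exact hM x hx
  · rintro _ ⟨x, hx, rfl⟩; exact hN x hx

/-- A subgroup with all `p`-elements of `A` is closed under roots of `p`-power degree. -/
theorem mem_of_pow_mem [Finite G] [Fact p.Prime] {A M : Subgroup G} (hM : oppRes p A ≤ M) {a : G}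
    (ha : a ∈ A) {k : ℕ} (hk : a ^ p ^ k ∈ M) : a ∈ M := by
  set e := (orderOf a).factorization p with he
  set r := orderOf a / p ^ e with hr
  have hcop : r.Coprime (p ^ k) :=
    ((Nat.coprime_ordCompl Fact.out (orderOf_pos a).ne').symm).pow_right k
  have hmul : p ^ e * r = orderOf a := Nat.ordProj_mul_ordCompl_eq_self _ _
  have hr0 : r ≠ 0 := fun h => (orderOf_pos a).ne' (by rw [← hmul, h, mul_zero])
  have hord : orderOf (a ^ r) = p ^ e := by
    rw [orderOf_pow_of_dvd hr0 (Dvd.intro_left _ hmul), ← hmul,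
      Nat.mul_div_cancel _ (Nat.pos_of_ne_zero hr0)]
  have har : a ^ r ∈ M := by
    refine hM ⟨⟨a ^ r, pow_mem ha r⟩, Subgroup.subset_closure ⟨e, ?_⟩, rfl⟩
    rw [← Subgroup.orderOf_coe]; exact hord
  have hb : a = a ^ ((r : ℤ) * r.gcdA (p ^ k) + ((p ^ k : ℕ) : ℤ) * r.gcdB (p ^ k)) := by
    rw [← Nat.gcd_eq_gcd_ab, Nat.Coprime.gcd_eq_one hcop, Nat.cast_one, zpow_one]
  rw [hb, zpow_add, zpow_mul, zpow_mul, zpow_natCast, zpow_natCast]
  exact M.mul_mem (M.zpow_mem har _) (M.zpow_mem hk _)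

/-- If the quotient is `p`-solvable, one of the candidates is proper. -/
theorem exists_proper [Fact p.Prime] {A K : Subgroup G} [Finite A] (hKA : K ≤ A)
    (hne : K ≠ A) [(K.subgroupOf A).Normal] (hsolv : Cfsg.IsPSolvable p (A ⧸ K.subgroupOf A)) :
    opRes p A ⊔ K ≠ A ∨ oppRes p A ⊔ K ≠ A := by
  obtain ⟨n, H, h0, hl, hm, hnor, hfac⟩ := hsolv
  by_contra hcon
  push Not at hcon
  have key : ∀ N : Subgroup A, N.Normal → K.subgroupOf A ≤ N →
      ((∃ m, N.index = p ^ m) ∨ N.index.Coprime p) → N = ⊤ := by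
    intro N hN hKN hidx
    have hK' : K ≤ N.map A.subtype := fun x hx => ⟨⟨x, hKA hx⟩, hKN hx, rfl⟩
    suffices h : A ≤ N.map A.subtype by
      refine eq_top_iff.2 fun x _ => ?_
      obtain ⟨y, hy, hxy⟩ := h x.2
      rwa [← Subtype.ext (show (y : G) = x from hxy)]
    rcases hidx with ⟨m, hm⟩ | hco
    · calc A = opRes p A ⊔ K := hcon.1.symm
        _ ≤ N.map A.subtype :=
          sup_le (Subgroup.map_mono (CfsgLib.Transfer.pResidual_le_of_index_eq_pow N hm)) hK'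
    · calc A = oppRes p A ⊔ K := hcon.2.symm
        _ ≤ N.map A.subtype := sup_le (Subgroup.map_mono ((Subgroup.closure_le _).2 ?_)) hK'
      rintro g ⟨k, hk⟩
      have h2 : orderOf (g : A ⧸ N) ∣ N.index := N.index_eq_card ▸ orderOf_dvd_natCard _
      have h3 : orderOf (g : A ⧸ N) ∣ p ^ k := hk ▸ orderOf_map_dvd (QuotientGroup.mk' N) g
      have h4 : orderOf (g : A ⧸ N) = 1 := Nat.eq_one_of_dvd_coprimes (hco.pow_right k) h2 h3
      exact (QuotientGroup.eq_one_iff g).1 (orderOf_eq_one_iff.1 h4)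
  have hall : ∀ i, H i = ⊤ := by
    refine Fin.reverseInduction hl fun i hi => ?_
    have hn := hnor i.castSucc
    have hcase := hfac i
    rw [hi, Subgroup.relIndex_top_right] at hcase
    have hsurj := QuotientGroup.mk'_surjective (K.subgroupOf A)
    have := key ((H i.castSucc).comap (QuotientGroup.mk' _)) (hn.comap _)
      (fun x hx => by
        show QuotientGroup.mk' _ x ∈ H i.castSucc
        rw [show QuotientGroup.mk' (K.subgroupOf A) x = 1 from (QuotientGroup.eq_one_iff x).2 hx]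
        exact one_mem _)
      (by rwa [Subgroup.index_comap_of_surjective _ hsurj])
    rw [← Subgroup.map_comap_eq_self_of_surjective hsurj (H i.castSucc), this,
      Subgroup.map_top_of_surjective _ hsurj]
  have htriv : (⊤ : Subgroup (A ⧸ K.subgroupOf A)) = ⊥ := ((hall 0).symm.trans h0)
  refine hne (le_antisymm hKA fun x hx => ?_)
  have h1 : ((⟨x, hx⟩ : A) : A ⧸ K.subgroupOf A) ∈ (⊥ : Subgroup _) :=
    htriv ▸ Subgroup.mem_top _
  exact (QuotientGroup.eq_one_iff (⟨x, hx⟩ : A)).1 h1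

/-- A subgroup of a `p`-solvable quotient is `p`-solvable. -/
theorem isPSolvable_sub [Fact p.Prime] {A A' K : Subgroup G} (hAA : A ≤ A')
    [(K.subgroupOf A).Normal] [(K.subgroupOf A').Normal]
    (h : Cfsg.IsPSolvable p (A' ⧸ K.subgroupOf A')) : Cfsg.IsPSolvable p (A ⧸ K.subgroupOf A) := by
  refine CfsgLib.PLocal.isPSolvable_of_injective
    (f := QuotientGroup.map (K.subgroupOf A) (K.subgroupOf A') (Subgroup.inclusion hAA) fun x hx => hx)
    (fun x y hxy => ?_) h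
  induction x using QuotientGroup.induction_on with
  | H a =>
    induction y using QuotientGroup.induction_on with
    | H b =>
      have h1 : ((Subgroup.inclusion hAA a : A') : A' ⧸ K.subgroupOf A') = Subgroup.inclusion hAA b := hxy
      rw [QuotientGroup.eq] at h1 ⊢
      exact h1

end CfsgLib.Fusion.Envelope
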