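import Cfsg.Agent.Lib.Fusion.Envelope.Rep
import Cfsg.Agent.Lib.Fusion.SatCriterion.Main
import Cfsg.Agent.Lib.FusionWeakNormal.Key

/-!
# Centric subgroups meeting `T` in a self-centralizing subgroup

On such a subgroup the class of a map modulo `B` (a subgroup of `Aut_F(T)` containing `Aut_E(T)`, with no
`p`-elements outside) is well defined. Centric subgroups of the other kind are never radical.
-/

set_option autoImplicit false

namespace CfsgLib.Fusion.Envelope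

open Cfsg Cfsg.FusionSystem CfsgLib.Fusion

variable {Ω : Type*} [Group Ω] {S T : Subgroup Ω} {F : Cfsg.FusionSystem S} {E : Cfsg.FusionSystem T}
variable {P Q W : Subgroup Ω} {p : ℕ} {B : Subgroup (MulAut T)}

/-- The hypotheses of the construction. -/
structure Setting (F : Cfsg.FusionSystem S) (E : Cfsg.FusionSystem T) (p : ℕ)
    (B : Subgroup (MulAut T)) : Prop where
  isP : IsPGroup p S
  sat : F.IsSaturated p
  satE : E.IsSaturated p
  inv : E.IsInvariantIn F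
  le_B : E.autGroup T ≤ B
  B_le : B ≤ F.autGroup T
  pow : ∀ a ∈ F.autGroup T, ∀ k : ℕ, a ^ p ^ k ∈ B → a ∈ B

/-- All conjugates of `W` are self-centralizing in `T`. -/
def Good (F : Cfsg.FusionSystem S) (T W : Subgroup Ω) : Prop :=
  W ≤ T ∧ ∀ W', F.IsConj W W' → centralizerIn T W' ≤ W'

theorem Good.mono {W₂ : Subgroup Ω} (h : Good F T W) (hle : W ≤ W₂) (h₂ : W₂ ≤ T) : Good F T W₂ := by
  refine ⟨h₂, fun W' hW' c hc => ?_⟩
  obtain ⟨φ, hφ, rfl⟩ := hW'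
  have hsub : (φ.comp (Subgroup.inclusion hle)).range ≤ φ.range := by
    rintro _ ⟨x, rfl⟩; exact ⟨_, rfl⟩
  exact hsub (h.2 _ ⟨_, restrict_mem hφ hle, rfl⟩ ⟨hc.1, fun y hy => hc.2 y (hsub hy)⟩)

theorem Good.of_isConj (h : Good F T W) (hW : F.IsConj W Q) (hQ : Q ≤ T) : Good F T Q :=
  ⟨hQ, fun _ hW' => h.2 _ (isConj_trans hW hW')⟩

theorem map_mem_base (hinv : E.IsInvariantIn F) {φ : P →* Ω} (hφ : φ ∈ F.Hom P) {x : P}
    (hx : (x : Ω) ∈ T) : φ x ∈ T := FusionWeakNormal.map_mem_closed hinv hφ x hx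

/-- The restriction to the part in `T`. -/
def resT (T : Subgroup Ω) {P : Subgroup Ω} (φ : P →* Ω) : ↥(P ⊓ T) →* Ω :=
  φ.comp (Subgroup.inclusion inf_le_left)

theorem resT_apply {φ : P →* Ω} (x : ↥(P ⊓ T)) : resT T φ x = φ ⟨x, inf_le_left (b := T) x.2⟩ := rfl

theorem resT_mem {φ : P →* Ω} (hφ : φ ∈ F.Hom P) : resT T φ ∈ F.Hom (P ⊓ T) :=
  restrict_mem hφ inf_le_left

theorem range_resT [Finite S] (hinv : E.IsInvariantIn F) {φ : P →* Ω} (hφ : φ ∈ F.Hom P) :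
    (resT T φ).range = φ.range ⊓ T := by
  apply le_antisymm
  · rintro _ ⟨x, rfl⟩
    exact ⟨⟨_, rfl⟩, map_mem_base hinv hφ x.2.2⟩
  · rintro _ ⟨⟨x, rfl⟩, hT⟩
    obtain ⟨ψ, hψ, hψx⟩ := F.inv_mem hφ
    have h := map_mem_base hinv hψ (x := ⟨φ x, x, rfl⟩) hT
    rw [hψx] at h
    exact ⟨⟨x, x.2, h⟩, rfl⟩

/-- Powers of an automorphism multiply the class. -/
theorem rep_pow (h : Setting F E p B) {a : MulAut T} (ha : a ∈ F.autGroup T) {P : Subgroup Ω}
    {α : MulAut P} (hα : α ∈ F.autGroup P) (hP : P ≤ S)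
    (hrep : Rep E a (resT T (P.subtype.comp α.toMonoidHom))) :
    ∀ n : ℕ, Rep E (a ^ n) (resT T (P.subtype.comp (α ^ n).toMonoidHom)) := by
  intro n
  induction n with
  | zero => exact rep_conj 1 inf_le_right fun _ => rfl
  | succ n ih =>
    rw [pow_succ' a, pow_succ' α]
    have hαn := (mem_autGroup_iff_hom hP).1 (pow_mem hα n)
    exact Rep.comp (Q := P ⊓ T) h.inv.2.2.1 (pow_mem ha n)
      (fun x => ⟨((α ^ n) ⟨x, inf_le_left (b := T) x.2⟩).2, map_mem_base h.inv hαn x.2.2⟩)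
      _ (fun _ => rfl) ih hrep

/-- An element of `Aut_F(T)` in `E` on a good subgroup is in `B`. -/
theorem mem_B_of_restrict [Finite S] [Fact p.Prime] (h : Setting F E p B) :
    ∀ (n : ℕ) (W : Subgroup Ω) (hW : Good F T W), Nat.card T - Nat.card W = n →
      ∀ a ∈ F.autGroup T, (T.subtype.comp (a : MulAut T).toMonoidHom).comp (Subgroup.inclusion hW.1)
        ∈ E.Hom W → a ∈ B := by
  intro n
  induction n using Nat.strong_induction_on with
  | _ n ih =>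
  intro W hW hn a ha hres
  have hTS : T ≤ S := h.inv.2.1.1
  have : Finite T := finite_of_le hTS
  have hT : IsPGroup p T := h.isP.to_le hTS
  rcases hW.1.eq_or_lt with rfl | hlt
  · exact h.le_B ((mem_autGroup_iff_hom le_rfl).2 (mem_of_restrict hres le_rfl _ fun _ => rfl))
  set N := normalizerIn T W with hN
  have hWN : W ≤ N := le_normalizerIn hW.1
  have hNT : N ≤ T := normalizerIn_le T W
  have hNgood := hW.mono hWN hNT
  have hlt' := lt_normalizerIn hT hlt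
  have : Finite N := finite_of_le hNT
  have hih : ∀ (V : Subgroup Ω) (c d : MulAut T), c ∈ F.autGroup T → d ∈ F.autGroup T →
      ∀ χ : V →* Ω, Nat.card V = Nat.card N → Good F T V → Rep E c χ → Rep E d χ → c⁻¹ * d ∈ B := by
    intro V c d hc hd χ hV hVg h1 h2
    obtain ⟨V', hVV', hle, hmem⟩ := h1.ratio h2
    refine ih _ ?_ V' (hVg.of_isConj (CfsgLib.FusionQuot.isConj_of_subsystem h.inv.1 hVV') hle) rfl
      _ (mul_mem ((F.autGroup T).inv_mem hc) hd) hmem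
    have h3 := Descent.card_lt_card_of_lt hNT hlt'
    have h4 := Descent.card_le_of_le hNT
    have h5 := isConj_card_eq hVV'
    omega
  set ψ := (T.subtype.comp (a : MulAut T).toMonoidHom).comp (Subgroup.inclusion hNT) with hψ
  have hψF : ψ ∈ F.Hom N := restrict_mem ((mem_autGroup_iff_hom hTS).1 ha) hNT
  set W' := ((T.subtype.comp (a : MulAut T).toMonoidHom).comp (Subgroup.inclusion hW.1)).range with hW'
  obtain ⟨f, hf, hfx⟩ := exists_iso hres hW'.symm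
  have hW'T : W' ≤ T := range_le hres
  have hWW' : F.IsConj W W' := CfsgLib.FusionQuot.isConj_of_subsystem h.inv.1 (isConj_of_mem hres)
  have hW'g : Good F T W' := hW.of_isConj hWW' hW'T
  have hW'c : E.IsCentric W' :=
    ⟨hW'T, fun R hR => hW'g.2 R (CfsgLib.FusionQuot.isConj_of_subsystem h.inv.1 hR)⟩
  have hag0 : ∀ x : W, ψ ⟨x, hWN x.2⟩ = (f x : Ω) := fun x => (hfx x).symm
  obtain ⟨g, hg, -, hgx⟩ := hf.exists_extension (isReceptive_of_isCentric hT h.satE hW'c) hWN le_rfl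
    fun x hx => by
      rw [congr_conjAut_eq_of_extends (R := N) hWN hag0 hx hx.2]
      exact conjAut_mem_autInducedBy (a ⟨x, hNT hx⟩ : T).2 _
  have hrange : ∀ x, ψ x ∈ g.range := by
    intro x
    have hz : (g x)⁻¹ * ψ x ∈ W' := by
      refine hW'g.2 _ (isConj_refl F (hW'T.trans hTS))
        ⟨T.mul_mem (T.inv_mem (map_mem hg x)) (a ⟨x, hNT x.2⟩ : T).2, ?_⟩
      show (g x)⁻¹ * ψ x ∈ Subgroup.centralizer (W' : Set Ω)
      rw [Subgroup.mem_centralizer_iff]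
      intro y hy
      have h1 := congr_conjAut_of_extends hWN hag0 x.2 x.2.2 ⟨y, hy⟩
      have h2 := congr_conjAut_of_extends hWN hgx (g := (x : Ω)) x.2 x.2.2 ⟨y, hy⟩
      have h3 : g x * y * (g x)⁻¹ = ψ ⟨x, x.2⟩ * y * (ψ ⟨x, x.2⟩)⁻¹ := h2.symm.trans h1
      calc y * ((g x)⁻¹ * ψ x) = (g x)⁻¹ * (g x * y * (g x)⁻¹) * ψ x := by group
        _ = (g x)⁻¹ * (ψ x * y * (ψ x)⁻¹) * ψ x := by rw [h3]
        _ = _ := by group
    have hsub : W' ≤ g.range := fun y hy => ⟨⟨f.symm ⟨y, hy⟩, hWN (f.symm ⟨y, hy⟩).2⟩,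
      by rw [hgx, MulEquiv.apply_symm_apply]⟩
    have := g.range.mul_mem ⟨x, rfl⟩ (hsub hz)
    rwa [mul_inv_cancel_left] at this
  obtain ⟨η, hη, hηx⟩ := F.inv_mem (h.inv.1 N hg)
  have hδF : η.comp (ψ.codRestrict g.range hrange) ∈ F.Hom N := F.comp_mem hψF hη hrange
  have hgη : ∀ x, ∀ hy : ψ x ∈ g.range, ∃ y : N, g y = ψ x ∧ η ⟨ψ x, hy⟩ = y := by
    intro x hy
    obtain ⟨y, hy'⟩ := hy
    exact ⟨y, hy', (congrArg η (Subtype.ext hy'.symm)).trans (hηx y)⟩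
  have hδN : ∀ x, η.comp (ψ.codRestrict g.range hrange) x ∈ N := fun x => by
    obtain ⟨y, -, hy⟩ := hgη x (hrange x)
    exact hy.symm ▸ y.2
  obtain ⟨δ, hδ, hδx⟩ := exists_aut hδF (range_eq_of_le (hom_inj hδF) hδN)
  have hgδ : ∀ x : N, g (δ x) = ψ x := by
    intro x
    obtain ⟨y, hy, hy'⟩ := hgη x (hrange x)
    rw [show δ x = y from Subtype.ext ((hδx x).trans hy'), hy]
  have hfix : ∀ x : N, (x : Ω) ∈ W → δ x = x := by
    intro x hx
    apply hom_inj hg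
    rw [hgδ]
    exact (hag0 ⟨x, hx⟩).trans (hgx ⟨x, hx⟩).symm
  have htriv : FusionWeakNormal.TrivMod W δ := by
    intro x
    refine hW.2 W (isConj_refl F (hW.1.trans hTS))
      ⟨T.mul_mem (T.inv_mem (hNT x.2)) (hNT (δ x).2), ?_⟩
    show (x : Ω)⁻¹ * (δ x : Ω) ∈ Subgroup.centralizer (W : Set Ω)
    rw [Subgroup.mem_centralizer_iff]
    intro y hy
    have hc : (x : Ω) * y * (x : Ω)⁻¹ ∈ W := conj_mem_of_mem_normalizer x.2.2 hy
    have h1 := congrArg Subtype.val (hfix (x * ⟨y, hWN hy⟩ * x⁻¹) hc)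
    rw [map_mul, map_mul, map_inv, hfix ⟨y, hWN hy⟩ hy] at h1
    have h1' : (δ x : Ω) * y * (δ x : Ω)⁻¹ = x * y * (x : Ω)⁻¹ := h1
    calc y * ((x : Ω)⁻¹ * δ x) = (x : Ω)⁻¹ * (x * y * (x : Ω)⁻¹) * δ x := by group
      _ = (x : Ω)⁻¹ * (δ x * y * (δ x : Ω)⁻¹) * δ x := by rw [h1']
      _ = _ := by group
  have : Finite W := finite_of_le hW.1
  obtain ⟨k, hk⟩ := FusionWeakNormal.isPGroup_stabSeries (F := F) (hT.to_le hW.1) N
    ⟨δ, hδ, hfix, htriv⟩
  have hk' : δ ^ p ^ k = 1 := congrArg Subtype.val hk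
  -- the class of `δ`
  obtain ⟨b, hb, hbrep⟩ : ∃ b ∈ F.autGroup T, Rep E b (resT T (N.subtype.comp δ.toMonoidHom)) :=
    h.inv.2.2.2 _ inf_le_right _ (resT_mem ((mem_autGroup_iff_hom (hNT.trans hTS)).1 hδ))
  have hNN : N ⊓ T = N := inf_eq_left.2 hNT
  have hNg' : Good F T (N ⊓ T) := hNgood.mono hNN.ge inf_le_right
  have hbB : b ∈ B := by
    refine h.pow b hb k ?_
    have h1 := rep_pow h hb hδ (hNT.trans hTS) hbrep (p ^ k)
    have h2 : Rep E (1 : MulAut T) (resT T (N.subtype.comp (δ ^ p ^ k).toMonoidHom)) :=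
      rep_conj 1 inf_le_right fun x => by
        show (((δ ^ p ^ k) ⟨x, inf_le_left (b := T) x.2⟩ : N) : Ω) = _
        rw [hk']; rfl
    simpa using hih _ 1 (b ^ p ^ k) (one_mem _) (pow_mem hb _) _ (by rw [hNN]) hNg' h2 h1
  have h1 : Rep E (1 * b) (resT T ψ) :=
    Rep.comp (φ := resT T (N.subtype.comp δ.toMonoidHom)) (ψ := g) h.inv.2.2.1 hb
      (fun x => (δ ⟨x, inf_le_left (b := T) x.2⟩).2) _
      (fun x => (hgδ ⟨x, inf_le_left (b := T) x.2⟩).symm) hbrep (rep_of_mem hg)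
  have h2 : Rep E a (resT T ψ) := rep_conj a inf_le_right fun _ => rfl
  have h3 := B.mul_mem hbB (hih _ b a hb ha _ (by rw [hNN]) hNg' (one_mul b ▸ h1) h2)
  rwa [mul_inv_cancel_left] at h3

/-- On a good subgroup a class in `B` is the only class. -/
theorem mem_B_of_reps [Finite S] [Fact p.Prime] (h : Setting F E p B) (hW : Good F T W) {a b : MulAut T}
    (ha : a ∈ B) (hb : b ∈ F.autGroup T) {φ : W →* Ω} (h₁ : Rep E a φ) (h₂ : Rep E b φ) : b ∈ B := by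
  obtain ⟨W', hWW', hle, hmem⟩ := h₁.ratio h₂
  have h3 := B.mul_mem ha (mem_B_of_restrict h _ W'
    (hW.of_isConj (CfsgLib.FusionQuot.isConj_of_subsystem h.inv.1 hWW') hle) rfl _
    (mul_mem ((F.autGroup T).inv_mem (h.B_le ha)) hb) hmem)
  rwa [mul_inv_cancel_left] at h3

/-- An element of `T` witnessing that `Q` is not radical. -/
def Star (T Q : Subgroup Ω) : Prop :=
  ∃ x ∈ T, x ∈ Subgroup.normalizer (Q : Set Ω) ∧ x ∉ Q ∧ ∀ y ∈ Q, y ∈ T → x * y = y * x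

/-- A centric subgroup of the bad kind has a conjugate with a witness. -/
theorem exists_star [Finite S] [Fact p.Prime] (h : Setting F E p B) (hP : F.IsCentric P)
    (hg : ¬ Good F T (P ⊓ T)) : ∃ Q, F.IsConj P Q ∧ Star T Q := by
  have hTS : T ≤ S := h.inv.2.1.1
  have hPS : P ≤ S := hP.1
  obtain ⟨W'', hW'', hbad⟩ : ∃ W'', F.IsConj (P ⊓ T) W'' ∧ ¬ centralizerIn T W'' ≤ W'' := by
    by_contra hcon
    push Not at hcon
    exact hg ⟨inf_le_right, hcon⟩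
  obtain ⟨W', hWW', hW'⟩ := exists_isFullyNormalized F (show P ⊓ T ≤ S from inf_le_left.trans hPS)
  have hW'T : W' ≤ T := FusionWeakNormal.isConj_le_base h.inv inf_le_right hWW'
  have hW''T : W'' ≤ T := FusionWeakNormal.isConj_le_base h.inv inf_le_right hW''
  -- `W'` is not self-centralizing in `T`
  obtain ⟨e, -, ψ, hψ, -, hψe⟩ :=
    exists_normalizer_map h.isP h.sat hW' (isConj_trans (isConj_symm hW'') hWW')
  have hX : ¬ centralizerIn T W' ≤ W' := by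
    obtain ⟨c, hc, hcW⟩ := SetLike.not_le_iff_exists.1 hbad
    have hcN : c ∈ normalizerIn S W'' := ⟨hTS hc.1, centralizer_le_normalizer _ hc.2⟩
    intro hle
    have hmem : ψ ⟨c, hcN⟩ ∈ W' := hle ⟨map_mem_base h.inv hψ (x := ⟨c, hcN⟩) hc.1,
      (map_mem_centralizer_iff_of_extends (le_normalizerIn (hW''T.trans hTS)) hψe hcN hcN.2).2 hc.2⟩
    refine hcW ?_
    have h1 : ψ ⟨c, hcN⟩ = ψ ⟨e.symm ⟨_, hmem⟩, le_normalizerIn (hW''T.trans hTS) (e.symm _).2⟩ := by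
      rw [hψe, MulEquiv.apply_symm_apply]
    have h2 := congrArg Subtype.val (hom_inj hψ h1)
    exact (show c = _ from h2) ▸ (e.symm ⟨_, hmem⟩).2
  -- move `P`
  obtain ⟨e₂, -, ψ₂, hψ₂, -, hψ₂e⟩ := exists_normalizer_map h.isP h.sat hW' hWW'
  have hPN : P ≤ normalizerIn S (P ⊓ T) := by
    intro x hx
    refine ⟨hPS hx, Subgroup.mem_normalizer_iff.2 fun y => ?_⟩
    have hTx := stronglyClosed_le_normalizer h.inv.2.1 (hPS hx)
    constructor
    · exact fun hy => ⟨P.mul_mem (P.mul_mem hx hy.1) (P.inv_mem hx),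
        (Subgroup.mem_normalizer_iff.1 hTx y).1 hy.2⟩
    · rintro ⟨h1, h2⟩
      refine ⟨?_, (Subgroup.mem_normalizer_iff.1 hTx y).2 h2⟩
      have := P.mul_mem (P.mul_mem (P.inv_mem hx) h1) hx
      simpa [mul_assoc] using this
  set φ := ψ₂.comp (Subgroup.inclusion hPN) with hφdef
  have hφ : φ ∈ F.Hom P := restrict_mem hψ₂ hPN
  set Q := φ.range with hQdef
  have hQS : Q ≤ S := range_le hφ
  have hQT : Q ⊓ T = W' := by
    rw [hQdef, ← range_resT h.inv hφ]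
    apply le_antisymm
    · rintro _ ⟨x, rfl⟩
      show ψ₂ ⟨x, _⟩ ∈ W'
      rw [hψ₂e x]
      exact (e₂ x).2
    · intro y hy
      refine ⟨e₂.symm ⟨y, hy⟩, ?_⟩
      show ψ₂ ⟨((e₂.symm ⟨y, hy⟩ : ↥(P ⊓ T)) : Ω), _⟩ = y
      rw [hψ₂e (e₂.symm ⟨y, hy⟩), MulEquiv.apply_symm_apply]
  set X := centralizerIn T W' with hXdef
  have hQW : Q ≤ Subgroup.normalizer (W' : Set Ω) := by
    rintro _ ⟨x, rfl⟩
    exact map_mem_normalizer_of_extends (le_normalizerIn (inf_le_left.trans hPS)) hψ₂e (hPN x.2)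
      (hPN x.2).2
  have hconjX : ∀ q ∈ Q, ∀ x ∈ X, q * x * q⁻¹ ∈ X := by
    intro q hq x hx
    refine ⟨(Subgroup.mem_normalizer_iff.1 (stronglyClosed_le_normalizer h.inv.2.1 (hQS hq)) x).1 hx.1, ?_⟩
    show q * x * q⁻¹ ∈ Subgroup.centralizer (W' : Set Ω)
    rw [Subgroup.mem_centralizer_iff]
    intro w hw
    have hw' : q⁻¹ * w * q ∈ W' := by
      have := conj_mem_of_mem_normalizer (inv_mem (hQW hq)) hw
      rwa [inv_inv] at this
    have h1 := Subgroup.mem_centralizer_iff.1 hx.2 _ hw'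
    calc w * (q * x * q⁻¹) = q * ((q⁻¹ * w * q) * x) * q⁻¹ := by group
      _ = q * (x * (q⁻¹ * w * q)) * q⁻¹ := by rw [h1]
      _ = _ := by group
  have hQX : Q ≤ Subgroup.normalizer (X : Set Ω) := fun q hq =>
    Subgroup.mem_normalizer_iff.2 fun x => ⟨hconjX q hq x, fun hx => by
      simpa [mul_assoc] using hconjX q⁻¹ (Q.inv_mem hq) _ hx⟩
  have hlt : Q < X ⊔ Q := lt_of_le_of_ne le_sup_right fun heq => hX fun x hx =>
    hQT.le ⟨heq.ge (le_sup_left (a := X) hx), hx.1⟩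
  have hMS : X ⊔ Q ≤ S := sup_le ((centralizerIn_le T W').trans hTS) hQS
  have : Finite ↥(X ⊔ Q) := finite_of_le hMS
  obtain ⟨g, hgN, hgQ⟩ := SetLike.exists_of_lt (lt_normalizerIn (h.isP.to_le hMS) hlt)
  have hgM : g ∈ (↑(X ⊔ Q) : Set Ω) := hgN.1
  rw [Subgroup.coe_mul_of_right_le_normalizer_left _ _ hQX] at hgM
  obtain ⟨x, hx, q, hq, hxq⟩ := hgM
  have hxq' : x * q = g := hxq
  refine ⟨Q, isConj_of_mem hφ, x, hx.1, ?_, fun hxQ => hgQ (hxq' ▸ Q.mul_mem hxQ hq), fun y hyQ hyT => ?_⟩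
  · have h1 : g * q⁻¹ ∈ Subgroup.normalizer (Q : Set Ω) :=
      mul_mem hgN.2 (inv_mem (Subgroup.le_normalizer hq))
    rwa [← hxq', mul_inv_cancel_right] at h1
  · exact (Subgroup.mem_centralizer_iff.1 hx.2 y (hQT.le ⟨hyQ, hyT⟩)).symm

/-- A witness induces an element of `O_p(Aut(Q))` which is not inner, in every subsystem containing it. -/
theorem star_core [Finite S] [Fact p.Prime] (h : Setting F E p B) {D : Cfsg.FusionSystem S}
    (hDF : D.IsSubsystemOf F) (hQ : F.IsCentric Q) (hs : Star T Q) :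
    ¬ autInducedBy S Q ⊓ SatCriterion.coreAut D p Q ≤ Cfsg.Inn Q := by
  obtain ⟨x, hxT, hxN, hxQ, hxc⟩ := hs
  have hQS := hQ.1
  have hTS : T ≤ S := h.inv.2.1.1
  have : Finite Q := finite_of_le hQS
  have : Finite ↥(Q ⊓ T) := finite_of_le (inf_le_left.trans hQS)
  set K := FusionWeakNormal.stabSeries D (Q ⊓ T) Q with hK
  have hbase : ∀ {γ : MulAut Q}, γ ∈ D.autGroup Q → ∀ {y : Q}, (y : Ω) ∈ Q ⊓ T → (γ y : Ω) ∈ Q ⊓ T :=
    fun {γ} hγ {y} hy => ⟨(γ y).2,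
      map_mem_base h.inv (hDF Q ((mem_autGroup_iff_hom hQS).1 hγ)) (x := y) hy.2⟩
  have hKn : (K.subgroupOf (D.autGroup Q)).Normal := by
    refine ⟨fun γ hγ β => ?_⟩
    obtain ⟨hγD, hγfix, hγm⟩ := Subgroup.mem_subgroupOf.1 hγ
    refine Subgroup.mem_subgroupOf.2 ⟨(β * γ * β⁻¹).2, fun w hw => ?_, fun w => ?_⟩
    · show (β : MulAut Q) ((γ : MulAut Q) (((β⁻¹ : D.autGroup Q) : MulAut Q) w)) = w
      rw [hγfix _ (hbase (β⁻¹).2 hw)]
      exact MulAut.apply_inv_self _ _ _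
    · show (w : Ω)⁻¹ * ((β : MulAut Q) ((γ : MulAut Q) (((β⁻¹ : D.autGroup Q) : MulAut Q) w)) : Ω) ∈ Q ⊓ T
      set u : Q := ((β⁻¹ : D.autGroup Q) : MulAut Q) w with hu
      have hw : (β : MulAut Q) u = w := MulAut.apply_inv_self _ _ _
      have h2 := hbase β.2 (y := u⁻¹ * (γ : MulAut Q) u) (hγm u)
      rw [map_mul, map_inv, hw] at h2
      exact h2
  have hKp : IsPGroup p (K.subgroupOf (D.autGroup Q)) :=
    IsPGroup.comap_subtype
      (FusionWeakNormal.isPGroup_stabSeries (h.isP.to_le (inf_le_left.trans hQS)) Q)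
  have hxS : x ∈ S := hTS hxT
  have hxD : conjAut Q x hxN ∈ D.autGroup Q :=
    autInducedBy_le_autGroup D hQS (conjAut_mem_autInducedBy hxS hxN)
  have hxK : conjAut Q x hxN ∈ K := by
    refine ⟨hxD, fun w hw => Subtype.ext ?_, fun w => ?_⟩
    · rw [conjAut_apply, hxc _ hw.1 hw.2, mul_inv_cancel_right]
    · refine ⟨Q.mul_mem (Q.inv_mem w.2) (conjAut Q x hxN w).2, ?_⟩
      rw [conjAut_apply]
      have h1 := (Subgroup.mem_normalizer_iff.1
        (stronglyClosed_le_normalizer h.inv.2.1 (S.inv_mem (hQS w.2))) x).1 hxT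
      have h2 := T.mul_mem h1 (T.inv_mem hxT)
      simpa [mul_assoc] using h2
  intro hle
  have hInn : conjAut Q x hxN ∈ Cfsg.Inn Q := hle ⟨conjAut_mem_autInducedBy hxS hxN,
    ⟨⟨_, hxD⟩, CfsgLib.Solvable.le_pCore hKn hKp (Subgroup.mem_subgroupOf.2 hxK), rfl⟩⟩
  obtain ⟨q, hqN, hqQ, hq⟩ := exists_eq_conjAut (inn_eq_autInducedBy Q ▸ hInn)
  refine hxQ ?_
  have hc : q⁻¹ * x ∈ centralizerIn S Q := by
    refine ⟨S.mul_mem (S.inv_mem (hQS hqQ)) hxS, ?_⟩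
    show q⁻¹ * x ∈ Subgroup.centralizer (Q : Set Ω)
    rw [Subgroup.mem_centralizer_iff]
    intro y hy
    have h1 := congrArg (fun a : MulAut Q => ((a ⟨y, hy⟩ : Q) : Ω)) hq
    simp only [conjAut_apply] at h1
    calc y * (q⁻¹ * x) = q⁻¹ * (q * y * q⁻¹) * x := by group
      _ = q⁻¹ * (x * y * x⁻¹) * x := by rw [h1]
      _ = _ := by group
  have := Q.mul_mem hqQ (centralizerIn_le_of_isCentric hQ hc)
  rwa [mul_inv_cancel_left] at this

end CfsgLib.Fusion.Envelope
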