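import Cfsg.Agent.Lib.Fusion.Envelope.Rep
import Cfsg.Agent.Lib.Fusion.PPrimeResidual
import Cfsg.Agent.Lib.Fusion.PPowerIndex.Residual
import Cfsg.Agent.Lib.Fusion.ResidualConstrained

/-!
# Residual limits do not change under passage to subsystems of `p`-power index or of index prime to `p`
-/

set_option autoImplicit false

namespace CfsgLib.Fusion.Envelope

open Cfsg Cfsg.FusionSystem CfsgLib.Fusion CfsgLib.Fusion.PPowerIndex

variable {Ω : Type*} [Group Ω] {S T V : Subgroup Ω} {F : Cfsg.FusionSystem S} {p : ℕ}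

/-- A saturated subsystem of `p`-power index is preserved by automorphisms of the big system which
preserve its carrier. -/
theorem pres_pPowerIndex [Finite S] [Fact p.Prime] (hS : IsPGroup p S) {R : Subgroup Ω}
    {G : Cfsg.FusionSystem R} (hFG : F.IsInvariantIn G) {U : Subgroup Ω} {X : Cfsg.FusionSystem U}
    (hUS : U ≤ S) (hX : X.IsSaturated p) (hXF : X.HasPPowerIndexIn F p) {a : MulAut S}
    (ha : a ∈ G.autGroup S) (haU : ∀ (x : Ω) (hx : x ∈ U), ((a ⟨x, hUS hx⟩ : S) : Ω) ∈ U) :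
    Pres X a := by
  have hSR : S ≤ R := hFG.2.1.1
  have : Finite U := finite_of_le hUS
  have haG := (mem_autGroup_iff_hom hSR).1 ha
  obtain ⟨a₁, ha₁, ha₁x⟩ := exists_aut (restrict_mem haG hUS)
    (range_eq_of_le (hom_inj (restrict_mem haG hUS)) fun x => haU x x.2)
  have htw : ∀ Q, Q ≤ U →
      (pResidual p (F.autGroup Q)).map (F.autGroup Q).subtype ≤ (twistSystem X a₁).autGroup Q := by
    rintro Q hQ _ ⟨β, hβ, rfl⟩
    obtain ⟨e, he, hex⟩ := exists_iso (Q := autImg a₁ Q)
      (restrict_mem ((mem_autGroup_iff_hom (hUS.trans hSR)).1 ha₁) hQ) (range_comp_inclusion hQ)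
    have hQS := hQ.trans hUS
    have hQ₁S : autImg a₁ Q ≤ S := (autImg_le a₁ Q).trans hUS
    let f : F.autGroup Q →* F.autGroup (autImg a₁ Q) :=
      ((MulAut.congr e).toMonoidHom.comp (F.autGroup Q).subtype).codRestrict _ fun γ =>
        CfsgLib.FusionQuot.congr_mem_autGroup_of_invariant hFG hQS hQ₁S he γ.2
    have h1 := hXF.2.2 _ (autImg_le a₁ Q) ⟨f β, CfsgLib.Transfer.map_pResidual_le f ⟨β, hβ, rfl⟩, rfl⟩
    refine (mem_autGroup_iff_hom hQ).2 ⟨hQ, Q.subtype_injective.comp (β : MulAut Q).injective,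
      fun x => hQ ((β : MulAut Q) x).2, _, (mem_autGroup_iff_hom (autImg_le a₁ Q)).1 h1,
      fun x hx hax => ?_⟩
    show ((MulAut.congr e (β : MulAut Q) ⟨_, hax⟩ : autImg a₁ Q) : Ω) = _
    rw [show (⟨_, hax⟩ : autImg a₁ Q) = e x from Subtype.ext (hex x).symm, congr_apply,
      MulEquiv.symm_apply_apply]
    exact hex _
  intro P φ hφ
  have hPU : P ≤ U := dom_le hφ
  obtain ⟨-, -, hφU, χ, hχ, hχx⟩ :=
    le_of_residual (hS.to_le hUS) hUS hX hXF.1 (twistSystem X a₁) htw P hφ
  have heq : ∀ (x : Ω) (hx : x ∈ U) (hxS : x ∈ S), ((a₁ ⟨x, hx⟩ : U) : Ω) = ((a ⟨x, hxS⟩ : S) : Ω) :=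
    fun x hx _ => ha₁x ⟨x, hx⟩
  have hle : autImg a P ≤ autImg a₁ P := fun y hy => by
    obtain ⟨s, hs, rfl⟩ := mem_autImg.1 hy
    exact mem_autImg.2 ⟨⟨s, hPU hs⟩, hs, heq s (hPU hs) s.2⟩
  refine ⟨_, restrict_mem hχ hle, fun x hx hφS hax => ?_⟩
  have hmem : ((a₁ ⟨x, hPU x.2⟩ : U) : Ω) ∈ autImg a₁ P := mem_autImg.2 ⟨⟨x, hPU x.2⟩, x.2, rfl⟩
  have e1 : Subgroup.inclusion hle ⟨_, hax⟩ = ⟨_, hmem⟩ := Subtype.ext (heq x (hPU x.2) hx).symm
  show χ (Subgroup.inclusion hle _) = _
  rw [e1, hχx x (hPU x.2) hmem]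
  exact heq _ (hφU x) hφS

theorem residualLimit_le {L : Cfsg.FusionSystem V} (h : L.IsResidualLimitOf F p) : L.IsSubsystemOf F := by
  induction h with
  | stable F p _ _ => exact fun _ => subset_rfl
  | step F p D D' hD hD' _ ih => exact fun P => (ih P).trans ((hD'.2.1.1 P).trans (hD.2.1 P))

theorem limit_step {X : Cfsg.FusionSystem T} {H : Subgroup Ω} {D D' : Cfsg.FusionSystem H}
    {L : Cfsg.FusionSystem V} (hH : H = X.hyperfocalSubgroup p) (hD : D.IsSaturated p)
    (hDX : D.HasPPowerIndexIn X p) (hD' : D.IsPPrimeResidual p D') (hL : L.IsResidualLimitOf D' p) :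
    L.IsResidualLimitOf X p := by
  subst hH
  exact .step X p D D' ⟨hD, hDX⟩ hD' hL

theorem sameMaps_residual {A B : Subgroup Ω} {X X' : Cfsg.FusionSystem A} {Y Y' : Cfsg.FusionSystem B}
    (hXY : SameMaps X Y) (hX : X.IsPPrimeResidual p X') (hY : Y.IsPPrimeResidual p Y') :
    SameMaps X' Y' := by
  obtain ⟨rfl, hXY⟩ := hXY
  obtain rfl := eq_of_hom hXY
  exact ⟨rfl, fun P => congrArg (fun Z => Z.Hom P) (pPrimeResidual_unique hX hY)⟩

theorem sameMaps_symm {A B : Subgroup Ω} {X : Cfsg.FusionSystem A} {Y : Cfsg.FusionSystem B}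
    (h : SameMaps X Y) : SameMaps Y X := ⟨h.1.symm, fun P => (h.2 P).symm⟩

/-- Residual limits of a subsystem of `p`-power index. -/
theorem limit_iff_pPower [Finite S] [Fact p.Prime] (hS : IsPGroup p S) (hF : F.IsSaturated p)
    (hTS : T ≤ S) {X : Cfsg.FusionSystem T} (hX : X.IsSaturated p) (hXF : X.HasPPowerIndexIn F p)
    {L : Cfsg.FusionSystem V} : L.IsResidualLimitOf F p ↔ L.IsResidualLimitOf X p := by
  have : Finite T := finite_of_le hTS
  have hT : IsPGroup p T := hS.to_le hTS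
  have hhyp := hyperfocal_eq_of_pPowerIndex hS hF hTS hXF
  constructor
  · intro hL
    cases hL with
    | stable _ _ hFh hres =>
      obtain rfl : T = S := le_antisymm hTS (hFh.ge.trans hXF.2.1)
      obtain rfl := eq_of_pPowerIndex hT le_rfl hX hXF hF (hasPPowerIndexIn_self hFh.le)
      exact .stable _ _ hFh hres
    | step _ _ D D' hD hD' hstep =>
      refine limit_step hhyp.symm hD.1 ⟨?_, hhyp.le, fun P hP => ?_⟩ hD' hstep
      · exact le_of_hasPPowerIndexIn hS ((hyperfocalSubgroup_le_S F p)) hD.1 hD.2.1 hXF.2.1 hXF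
      · exact le_trans (pResidual_autGroup_mono hXF.1 hTS (hP.trans hXF.2.1)) (hD.2.2.2 P hP)
  · intro hL
    cases hL with
    | stable _ _ hXh hres =>
      exact limit_step (hXh.symm.trans hhyp) hX hXF hres (.stable X p hXh hres)
    | step _ _ D D' hD hD' hstep =>
      have hle : X.hyperfocalSubgroup p ≤ T := hyperfocalSubgroup_le_S X p
      exact limit_step hhyp hD.1 (pPowerIndex_trans hle hXF hD.2 hhyp.ge) hD' hstep

/-- Subsystems of index prime to `p` have the same `p'`-residual. -/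
theorem residual_eq_of_index [Finite S] [Fact p.Prime] (hS : IsPGroup p S) (hF : F.IsSaturated p)
    {D : Cfsg.FusionSystem S} (hD : D.IsSaturated p) (hDF : D.HasPrimeToPIndexIn F p) :
    pPrimeResidualSystem D p = pPrimeResidualSystem F p := by
  obtain ⟨hAs, hAi, hAmin⟩ := pPrimeResidualSystem_isPPrimeResidual hS hF
  obtain ⟨hBs, hBi, hBmin⟩ := pPrimeResidualSystem_isPPrimeResidual hS hD
  refine eq_of_hom fun P => subset_antisymm ?_ ?_
  · refine hBmin _ hAs ⟨hAmin D hD hDF, fun Q hQ => ?_⟩ P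
    refine le_trans ?_ (hAi.2 Q hQ)
    exact oPAut_le_of_forall (H := oPAut F p Q) fun α hα ⟨k, hk⟩ =>
      mem_oPAut (CfsgLib.FusionQuot.autGroup_le_of_subsystem hDF.1 Q hα) hk
  · refine hAmin _ hBs ⟨fun Q => (hBi.1 Q).trans (hDF.1 Q), fun Q hQ => ?_⟩ P
    refine oPAut_le_of_forall fun α hα ⟨k, hk⟩ => hBi.2 Q hQ ?_
    exact mem_oPAut (hDF.2 Q hQ (mem_oPAut hα hk)) hk

/-- Residual limits of the `p'`-residual. -/
theorem limit_iff_residual [Fact p.Prime] : ∀ (n : ℕ) (S : Subgroup Ω) (F : Cfsg.FusionSystem S),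
    Nat.card S = n → Finite S → IsPGroup p S → F.IsSaturated p → ∀ {V : Subgroup Ω}
      (L : Cfsg.FusionSystem V),
      L.IsResidualLimitOf F p ↔ L.IsResidualLimitOf (pPrimeResidualSystem F p) p := by
  intro n
  induction n using Nat.strong_induction_on with
  | _ n ih =>
  intro S F hn hfin hS hF V L
  set R := pPrimeResidualSystem F p with hRdef
  have hR := pPrimeResidualSystem_isPPrimeResidual (p := p) hS hF
  rcases (hyperfocalSubgroup_le_S F p).eq_or_lt with hH | hlt
  · constructor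
    · intro hL
      cases hL with
      | stable _ _ hFh hres =>
        rw [hRdef, ← CfsgLib.FusionWeakNormal.eq_residual hS hF hres]
        exact .stable _ _ hFh hres
      | step _ _ D D' hD hD' hstep =>
        exact (sameMaps_residual (pResidual_same hS hH hD le_rfl hF (hasPPowerIndexIn_self hH.le))
          hD' hR).isResidualLimitOf hstep
    · exact fun hL => limit_step hH.symm hF (hasPPowerIndexIn_self hH.le) hR hL
  · set H := F.hyperfocalSubgroup p with hHdef
    have hHS : H ≤ S := hlt.le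
    have : Finite H := finite_of_le hHS
    have hHp : IsPGroup p H := hS.to_le hHS
    have hcard : Nat.card H < n := hn ▸ Descent.card_lt_card_of_lt le_rfl hlt
    obtain ⟨F', hF's, hF'i, -⟩ := exists_pPowerIndex hS hF hHS le_rfl
    have hRF : R.IsSubsystemOf F := pPrimeResidualSystem_subsystem F p
    have hRH : R.hyperfocalSubgroup p ≤ H := hyperfocal_mono hRF le_rfl
    obtain ⟨X, hXs, hXi, -⟩ := exists_pPowerIndex hS hR.1 hHS hRH
    have hHn : (H.subgroupOf S).Normal := ⟨fun x hx s => hyperfocalSubgroup_conj_mem F p s.2 hx⟩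
    have hXF : X.IsSubsystemOf F := fun P => (hXi.1 P).trans (hRF P)
    have hXF' : X.IsSubsystemOf F' := le_of_hasPPowerIndexIn hS hHS hXs hXF le_rfl hF'i
    have hinvR : R.IsInvariantIn F := pPrimeResidualSystem_isInvariantIn hS hF
    have hclosed := stronglyClosed_hyperfocal (p := p) hS hF
    have hinvX : X.IsInvariantIn F :=
      isInvariantIn_of_char hS hF hinvR (isNormalIn_of_pPowerIndex hS hR.1 hHS hHn hRH hXs hXi).1.2.2
        fun a ha => pres_pPowerIndex hS hinvR hHS hXs hXi ha fun x hx =>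
          stronglyClosed_apply_mem hclosed ((mem_autGroup_iff_hom le_rfl).1 ha) ⟨x, hHS hx⟩ hx
    have hXidx : X.HasPrimeToPIndexIn F' p := ⟨hXF', fun P hP =>
      oPAut_le_autGroup_of_invariant hHp hF's (isInvariantIn_of_le hHp hF's hF'i.1 hinvX hXF') hP⟩
    rw [limit_iff_pPower hS hF hHS hF's hF'i, limit_iff_pPower hS hR.1 hHS hXs hXi,
      ih _ hcard H F' rfl inferInstance hHp hF's L, ih _ hcard H X rfl inferInstance hHp hXs L,
      residual_eq_of_index hHp hF's hXs hXidx]

/-- Residual limits of a subsystem of index prime to `p`. -/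
theorem limit_iff_pPrime [Finite S] [Fact p.Prime] (hS : IsPGroup p S) (hF : F.IsSaturated p)
    {D : Cfsg.FusionSystem S} (hD : D.IsSaturated p) (hDF : D.HasPrimeToPIndexIn F p)
    {L : Cfsg.FusionSystem V} : L.IsResidualLimitOf F p ↔ L.IsResidualLimitOf D p := by
  rw [limit_iff_residual _ S F rfl inferInstance hS hF L,
    limit_iff_residual _ S D rfl inferInstance hS hD L, residual_eq_of_index hS hF hD hDF]

end CfsgLib.Fusion.Envelope
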