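import Cfsg.Agent.Lib.Fusion.Envelope.Limit
import Cfsg.Agent.Lib.Fusion.Envelope.Good
import Cfsg.Agent.S5198

/-!
# The subsystem of `p`-power index with automizer of `T` inside `B`
-/

set_option autoImplicit false

namespace CfsgLib.Fusion.Envelope

open Cfsg Cfsg.FusionSystem CfsgLib.Fusion CfsgLib.Fusion.PPowerIndex

variable {Ω : Type*} [Group Ω] {S T : Subgroup Ω} {F : Cfsg.FusionSystem S} {E : Cfsg.FusionSystem T}
variable {p : ℕ}

/-- The `p`-power step. -/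
theorem exists_pPower_step [Finite S] [Fact p.Prime] (hS : IsPGroup p S) (hF : F.IsSaturated p)
    (hEs : E.IsSaturated p) (hinv : E.IsInvariantIn F) (B : Subgroup (MulAut T))
    (hEB : E.autGroup T ≤ B) (hBres : (pResidual p (F.autGroup T)).map (F.autGroup T).subtype ≤ B)
    (hconj : ∀ γ ∈ F.autGroup T, ∀ β ∈ B, γ * β * γ⁻¹ ∈ B) :
    ∃ (U : Subgroup Ω) (D : Cfsg.FusionSystem U), T ⊔ centralizerIn S T ≤ U ∧ U ≤ S ∧
      D.IsSaturated p ∧ D.HasPPowerIndexIn F p ∧ D.IsInvariantIn F ∧ E.IsSubsystemOf D ∧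
      D.autGroup T ≤ B ∧ ∀ {R : Subgroup Ω} (G : Cfsg.FusionSystem R), F.IsInvariantIn G →
        G.StronglyClosed T → (∀ γ ∈ G.autGroup T, ∀ β ∈ B, γ * β * γ⁻¹ ∈ B) →
        ∀ a ∈ G.autGroup S, Pres D a := by
  classical
  have hTS : T ≤ S := hinv.2.1.1
  have : Finite T := finite_of_le hTS
  have : Finite (MulAut T) := finite_mulAut
  have hn : ∀ s ∈ S, s ∈ Subgroup.normalizer (T : Set Ω) := fun s hs =>
    stronglyClosed_le_normalizer hinv.2.1 hs
  let c : S →* MulAut T := MonoidHom.mk' (fun s => conjAut T s (hn s s.2)) fun a b =>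
    MulEquiv.ext fun z => Subtype.ext (by
      show (a : Ω) * b * z * ((a : Ω) * b)⁻¹ = (a : Ω) * ((b : Ω) * z * (b : Ω)⁻¹) * (a : Ω)⁻¹
      simp [mul_assoc])
  set U := (B.comap c).map S.subtype with hUdef
  have hUS : U ≤ S := Subgroup.map_subtype_le _
  have hmemU : ∀ (x : Ω) (hx : x ∈ S), x ∈ U ↔ conjAut T x (hn x hx) ∈ B := by
    intro x hx
    constructor
    · rintro ⟨s, hs, rfl⟩; exact hs
    · exact fun h => ⟨⟨x, hx⟩, h, rfl⟩
  have hTU : T ≤ U := fun x hx => (hmemU x (hTS hx)).2 (hEB (inn_le_autGroup E le_rfl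
    ((inn_eq_autInducedBy T).ge (conjAut_mem_autInducedBy hx (hn x (hTS hx))))))
  have hCU : centralizerIn S T ≤ U := fun x hx => (hmemU x hx.1).2 (by
    rw [(conjAut_eq_one_iff (hn x hx.1)).2 hx.2]; exact one_mem _)
  have hhyp : F.hyperfocalSubgroup p ≤ U := by
    intro x hx
    obtain ⟨α, hα, hαx⟩ := Cfsg.Agent.S5198.result p hS F hF T hinv.2.1 x hx
    have hxS := hyperfocalSubgroup_le_S F p hx
    refine (hmemU x hxS).2 ?_
    rw [show conjAut T x (hn x hxS) = α from MulEquiv.ext fun t => Subtype.ext (hαx t).symm]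
    exact sup_le hBres ((inn_le_autGroup E le_rfl).trans hEB) hα
  -- transport of `U`
  have htrans : ∀ {R : Subgroup Ω} (G : Cfsg.FusionSystem R), S ≤ R → G.StronglyClosed T →
      (∀ γ ∈ G.autGroup T, ∀ β ∈ B, γ * β * γ⁻¹ ∈ B) → ∀ a ∈ G.autGroup S,
        ∀ (x : Ω) (hx : x ∈ U), ((a ⟨x, hUS hx⟩ : S) : Ω) ∈ U := by
    intro R G hSR hTG hB a ha x hx
    have haG := (mem_autGroup_iff_hom hSR).1 ha
    obtain ⟨a₀, ha₀, ha₀x⟩ := exists_aut (restrict_mem haG hTS)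
      (range_eq_of_le (hom_inj (restrict_mem haG hTS)) fun y =>
        stronglyClosed_apply_mem hTG haG ⟨y, hTS y.2⟩ y.2)
    refine (hmemU _ (a ⟨x, hUS hx⟩).2).2 ?_
    have h1 := hB a₀ ha₀ _ ((hmemU x (hUS hx)).1 hx)
    refine (show conjAut T ((a ⟨x, hUS hx⟩ : S) : Ω) (hn _ (a ⟨x, hUS hx⟩).2) = _ from
      MulEquiv.ext fun t => Subtype.ext ?_) ▸ h1
    set u := (a₀⁻¹ : MulAut T) t with hu
    have ht : a₀ u = t := MulAut.apply_inv_self _ _ _
    show ((a ⟨x, hUS hx⟩ : S) : Ω) * t * ((a ⟨x, hUS hx⟩ : S) : Ω)⁻¹ =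
      ((a₀ (conjAut T x (hn x (hUS hx)) u) : T) : Ω)
    rw [← ht, ha₀x, ha₀x]
    show _ = ((a ⟨x * (u : Ω) * x⁻¹, _⟩ : S) : Ω)
    rw [show (⟨x * (u : Ω) * x⁻¹, hTS (conjAut T x (hn x (hUS hx)) u).2⟩ : S) =
      ⟨x, hUS hx⟩ * ⟨u, hTS u.2⟩ * ⟨x, hUS hx⟩⁻¹ from Subtype.ext rfl, map_mul, map_mul, map_inv]
    rfl
  have hUn : (U.subgroupOf S).Normal := by
    refine ⟨fun x hx s => ?_⟩
    obtain ⟨e, he, hex⟩ := exists_aut (F.conj_mem le_rfl s.2)
      (range_eq_of_le (hom_inj (F.conj_mem le_rfl s.2)) fun y => map_mem (F.conj_mem le_rfl s.2) y)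
    have h1 := htrans F le_rfl hinv.2.1 hconj e he x hx
    rw [hex] at h1
    exact h1
  obtain ⟨D, hDs, hDi, -⟩ := exists_pPowerIndex hS hF hUS hhyp
  have hDinv := (isNormalIn_of_pPowerIndex hS hF hUS hUn hhyp hDs hDi).1.2.2
  have hED : E.IsSubsystemOf D := le_of_hasPPowerIndexIn hS hTS hEs hinv.1 hTU hDi
  refine ⟨U, D, sup_le hTU hCU, hUS, hDs, hDi, hDinv, hED, ?_, fun {R} G hFG hTG hB a ha =>
    pres_pPowerIndex hS hFG hUS hDs hDi ha (htrans G hFG.2.1.1 hTG hB a ha)⟩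
  -- the automizer of `T`
  have : Finite U := finite_of_le hUS
  have hUp : IsPGroup p U := hS.to_le hUS
  have hEinvD := isInvariantIn_of_le hUp hDs hDi.1 hinv hED
  have hfn := FusionWeakNormal.isFullyNormalized_base hEinvD
  obtain ⟨-, R, hR⟩ := isFullyAutomized_of_isFullyNormalized hUp hDs hfn
  intro α hα
  have hmem : (⟨α, hα⟩ : D.autGroup T) ∈
      (↑(pResidual p (D.autGroup T) ⊔ (R : Subgroup (D.autGroup T))) : Set _) := by
    rw [CfsgLib.Transfer.pResidual_sup_of_sylow R]; trivial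
  rw [Subgroup.normal_mul] at hmem
  obtain ⟨β, hβ, t, ht, heq⟩ := hmem
  rw [show α = (β : MulAut T) * (t : MulAut T) from (congrArg Subtype.val heq).symm]
  refine B.mul_mem (hBres (pResidual_autGroup_mono hDi.1 hUS hTU ⟨β, hβ, rfl⟩)) ?_
  have ht' : (t : MulAut T) ∈ autInducedBy U T := by
    have : t ∈ (R : Subgroup (D.autGroup T)) := ht
    rwa [hR] at this
  obtain ⟨g, hg, hgU, hgt⟩ := exists_eq_conjAut ht'
  rw [hgt]
  exact (hmemU g (hUS hgU)).1 hgU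

end CfsgLib.Fusion.Envelope
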