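import Cfsg.Agent.Lib.Fusion.Envelope.PPrime
import Cfsg.Agent.Lib.Fusion.Envelope.PPower
import Cfsg.Agent.Lib.Fusion.Envelope.Classes

/-!
# The normal envelope of a normal subsystem with `p`-solvable automizer quotient
-/

set_option autoImplicit false

namespace CfsgLib.Fusion.Envelope

open Cfsg Cfsg.FusionSystem CfsgLib.Fusion

variable {Ω : Type*} [Group Ω] {S T : Subgroup Ω} {F : Cfsg.FusionSystem S} {E : Cfsg.FusionSystem T}
variable {p : ℕ}

/-- The properties kept along the descent. -/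
structure Stage (F : Cfsg.FusionSystem S) (E : Cfsg.FusionSystem T) (p : ℕ) {U : Subgroup Ω}
    (D : Cfsg.FusionSystem U) : Prop where
  le_carrier : T ⊔ centralizerIn S T ≤ U
  sat : D.IsSaturated p
  inv : D.IsInvariantIn F
  le : E.IsSubsystemOf D
  limit : ∀ {V : Subgroup Ω} (L : Cfsg.FusionSystem V),
    L.IsResidualLimitOf F p ↔ L.IsResidualLimitOf D p

/-- Weakly normal subsystems whose carrier contains its centralizer are normal. -/
theorem isNormalIn_of_self_centralizing {U : Subgroup Ω} {D : Cfsg.FusionSystem U}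
    (hC : centralizerIn S U ≤ U) (hF : F.IsSaturated p) (hD : D.IsSaturated p)
    (hinv : D.IsInvariantIn F) : D.IsNormalIn F p := by
  refine ⟨⟨hD, hF, hinv⟩, fun α hα => ?_⟩
  have hαF : α ∈ F.autGroup U := CfsgLib.FusionQuot.autGroup_le_of_subsystem hinv.1 U hα
  have key : ∀ (W : Subgroup Ω), W = U → ∃ β ∈ F.autGroup W,
      ∀ (x : U) (hx : (x : Ω) ∈ W), ((β ⟨x, hx⟩ : W) : Ω) = ((α x : U) : Ω) := by
    rintro W rfl
    exact ⟨α, hαF, fun x hx => rfl⟩
  obtain ⟨β, hβ, hβx⟩ := key _ (sup_eq_left.2 hC)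
  refine ⟨β, hβ, fun x => hβx x _, fun c hc => ?_⟩
  have hcU : (c : Ω) ∈ U := hC hc
  have h1 : ((β c : ↥(U ⊔ centralizerIn S U)) : Ω) = ((α ⟨c, hcU⟩ : U) : Ω) := hβx ⟨c, hcU⟩ c.2
  rw [h1]
  refine ⟨U.mul_mem (U.inv_mem hcU) (α ⟨c, hcU⟩).2, ?_⟩
  show (c : Ω)⁻¹ * ((α ⟨c, hcU⟩ : U) : Ω) ∈ Subgroup.centralizer (U : Set Ω)
  refine mul_mem (inv_mem hc.2) ?_
  rw [Subgroup.mem_centralizer_iff]
  intro y hy
  obtain ⟨z, hz⟩ := α.surjective ⟨y, hy⟩
  rw [show y = ((α z : U) : Ω) by rw [hz]]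
  show ((α z * α ⟨c, hcU⟩ : U) : Ω) = ((α ⟨c, hcU⟩ * α z : U) : Ω)
  rw [← map_mul, ← map_mul]
  exact congrArg (fun t : U => ((α t : U) : Ω)) (Subtype.ext (Subgroup.mem_centralizer_iff.1 hc.2 z z.2))

/-- At the end of the descent the carrier is `T C_S(T)`. -/
theorem carrier_eq [Finite S] [Fact p.Prime] (hS : IsPGroup p S) (hEs : E.IsSaturated p)
    (hinv : E.IsInvariantIn F) {U : Subgroup Ω} {D : Cfsg.FusionSystem U} (hU : Stage F E p D)
    (h : D.autGroup T = E.autGroup T) : T ⊔ centralizerIn S T = U := by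
  have hTS : T ≤ S := hinv.2.1.1
  have hUS : U ≤ S := hU.inv.2.1.1
  have hTU : T ≤ U := le_sup_left.trans hU.le_carrier
  have : Finite T := finite_of_le hTS
  have : Finite (MulAut T) := finite_mulAut
  refine le_antisymm hU.le_carrier fun u hu => ?_
  have huN := stronglyClosed_le_normalizer hinv.2.1 (hUS hu)
  have huD : conjAut T u huN ∈ E.autGroup T :=
    h ▸ autInducedBy_le_autGroup D hTU (conjAut_mem_autInducedBy hu huN)
  have hnor := inn_subgroupOf_normal E T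
  obtain ⟨-, R, hR⟩ := isFullyAutomized_of_isFullyNormalized (hS.to_le hTS) hEs (isFullyNormalized_top E)
  have hR' : (R : Subgroup (E.autGroup T)) = (Cfsg.Inn T).subgroupOf (E.autGroup T) := by
    rw [hR, inn_eq_autInducedBy]
  have hzp : IsPGroup p (Subgroup.zpowers (⟨_, huD⟩ : E.autGroup T)) := by
    obtain ⟨k, hk⟩ := isPGroup_autInducedBy hS T ⟨_, conjAut_mem_autInducedBy (hUS hu) huN⟩
    refine IsPGroup.of_card_dvd_pow (n := k) ?_
    rw [Nat.card_zpowers]
    exact orderOf_dvd_of_pow_eq_one (Subtype.ext (congrArg Subtype.val hk :))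
  obtain ⟨γ, hγ⟩ := exists_conj_le_sylow R hzp
  have h1 := hγ _ (Subgroup.mem_zpowers _)
  rw [hR'] at h1
  have h2 : (⟨_, huD⟩ : E.autGroup T) ∈ (Cfsg.Inn T).subgroupOf (E.autGroup T) := by
    have := hnor.conj_mem _ h1 γ⁻¹
    simpa [mul_assoc] using this
  obtain ⟨g, hgN, hgT, hg⟩ := exists_eq_conjAut ((inn_eq_autInducedBy T).le (Subgroup.mem_subgroupOf.1 h2))
  have hc : g⁻¹ * u ∈ centralizerIn S T := by
    refine ⟨S.mul_mem (S.inv_mem (hTS hgT)) (hUS hu), ?_⟩
    show g⁻¹ * u ∈ Subgroup.centralizer (T : Set Ω)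
    rw [Subgroup.mem_centralizer_iff]
    intro y hy
    have h3 := congrArg (fun a : MulAut T => ((a ⟨y, hy⟩ : T) : Ω)) hg
    simp only [conjAut_apply] at h3
    calc y * (g⁻¹ * u) = g⁻¹ * (g * y * g⁻¹) * u := by group
      _ = g⁻¹ * (u * y * u⁻¹) * u := by rw [h3]
      _ = _ := by group
  rw [show u = g * (g⁻¹ * u) by group]
  exact Subgroup.mul_mem_sup hgT hc

/-- One step of the descent. -/
theorem exists_smaller [Finite S] [Fact p.Prime] (hS : IsPGroup p S) (hF : F.IsSaturated p)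
    (hEs : E.IsSaturated p) (hinv : E.IsInvariantIn F)
    [hn : ((E.autGroup T).subgroupOf (F.autGroup T)).Normal]
    (hsolv : Cfsg.IsPSolvable p (↥(F.autGroup T) ⧸ (E.autGroup T).subgroupOf (F.autGroup T)))
    {U : Subgroup Ω} {D : Cfsg.FusionSystem U} (hD : Stage F E p D)
    (hne : D.autGroup T ≠ E.autGroup T) :
    ∃ (U' : Subgroup Ω) (D' : Cfsg.FusionSystem U'), Stage F E p D' ∧
      Nat.card (D'.autGroup T) < Nat.card (D.autGroup T) := by
  have hTS : T ≤ S := hinv.2.1.1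
  have hUS : U ≤ S := hD.inv.2.1.1
  have hTU : T ≤ U := le_sup_left.trans hD.le_carrier
  have : Finite U := finite_of_le hUS
  have : Finite T := finite_of_le hTS
  have : Finite (MulAut T) := finite_mulAut
  have hUp : IsPGroup p U := hS.to_le hUS
  set A := D.autGroup T with hA
  set K := E.autGroup T with hK
  have hKA : K ≤ A := CfsgLib.FusionQuot.autGroup_le_of_subsystem hD.le T
  have hAF : A ≤ F.autGroup T := CfsgLib.FusionQuot.autGroup_le_of_subsystem hD.inv.1 T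
  have hKn : ∀ γ ∈ F.autGroup T, ∀ β ∈ K, γ * β * γ⁻¹ ∈ K := fun γ hγ β hβ =>
    CfsgLib.FusionQuot.conj_mem_autGroup_of_invariant hinv le_rfl hγ hβ
  have hAn : ∀ γ ∈ F.autGroup T, ∀ α ∈ A, γ * α * γ⁻¹ ∈ A := fun γ hγ α hα =>
    CfsgLib.FusionQuot.conj_mem_autGroup_of_invariant hD.inv hTU hγ hα
  have : (K.subgroupOf A).Normal := ⟨fun x hx g => hKn _ (hAF g.2) _ hx⟩
  have hinvD : E.IsInvariantIn D := isInvariantIn_of_le hUp hD.sat hD.inv.1 hinv hD.le
  have hcard : ∀ {X : Subgroup (MulAut T)} {M : Subgroup (MulAut T)}, X ≤ M → M ≤ A → M ≠ A →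
      Nat.card X < Nat.card A := by
    intro X M hXM hMA hMne
    refine lt_of_le_of_lt (Subgroup.card_le_of_le hXM) (lt_of_not_ge fun hge => hMne ?_)
    exact Subgroup.eq_of_le_of_card_ge hMA hge
  rcases exists_proper hKA (Ne.symm hne) (isPSolvable_sub hAF hsolv) with hp | hp
  · set M := opRes p A ⊔ K with hM
    have hMA : M ≤ A := sup_le (opRes_le p A) hKA
    have hMF : ∀ γ ∈ F.autGroup T, ∀ β ∈ M, γ * β * γ⁻¹ ∈ M := fun γ hγ =>
      conj_mem_sup (fun β hβ => conj_mem_opRes (hAn γ hγ) hβ) (hKn γ hγ)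
    obtain ⟨U', D', hU', hU'U, hD's, hD'i, hD'inv, hED', hD'M, hpres⟩ :=
      exists_pPower_step hUp hD.sat hEs hinvD M le_sup_right le_sup_left fun γ hγ => hMF γ (hAF hγ)
    refine ⟨U', D', ⟨?_, hD's, ?_, hED', fun L => ?_⟩, hcard hD'M hMA hp⟩
    · refine le_trans (sup_le_sup_left (fun c hc => ?_) T) hU'
      exact ⟨hD.le_carrier (Subgroup.mem_sup_right hc), hc.2⟩
    · exact isInvariantIn_of_char hS hF hD.inv hD'inv fun a ha => hpres F hD.inv hinv.2.1 hMF a ha
    · exact (hD.limit L).trans (limit_iff_pPower hUp hD.sat hU'U hD's hD'i)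
  · set M := oppRes p A ⊔ K with hM
    have hMA : M ≤ A := sup_le (oppRes_le p A) hKA
    have hMF : ∀ γ ∈ F.autGroup T, ∀ β ∈ M, γ * β * γ⁻¹ ∈ M := fun γ hγ =>
      conj_mem_sup (fun β hβ => conj_mem_oppRes (hAn γ hγ) hβ) (hKn γ hγ)
    have hset : Setting D E p M := ⟨hUp, hD.sat, hEs, hinvD, le_sup_right, hMA,
      fun a ha k hk => mem_of_pow_mem (A := A) le_sup_left ha hk⟩
    have hconj : ∀ γ ∈ D.autGroup T, ∀ β ∈ M, γ * β * γ⁻¹ ∈ M := fun γ hγ => hMF γ (hAF hγ)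
    have hs := envSys_saturated hset hconj
    refine ⟨U, envSys hset, ⟨hD.le_carrier, hs, ?_, le_envSys hset hconj, fun L => ?_⟩,
      hcard (envSys_autGroup_le hset hconj) hMA hp⟩
    · exact isInvariantIn_of_char hS hF hD.inv (envSys_invariant hset hconj)
        (envSys_pres hset hD.inv hinv hMF)
    · exact (hD.limit L).trans (limit_iff_pPrime hUp hD.sat hs (envSys_index hset hconj))

/-- **The normal envelope.** -/
theorem exists_envelope [Finite S] [Fact p.Prime] (hS : IsPGroup p S) (hF : F.IsSaturated p)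
    (hEs : E.IsSaturated p) (hinv : E.IsInvariantIn F)
    [hn : ((E.autGroup T).subgroupOf (F.autGroup T)).Normal]
    (hsolv : Cfsg.IsPSolvable p (↥(F.autGroup T) ⧸ (E.autGroup T).subgroupOf (F.autGroup T))) :
    ∃ F₀ : Cfsg.FusionSystem (T ⊔ centralizerIn S T), Stage F E p F₀ ∧ F₀.IsNormalIn F p ∧
      F₀.autGroup T = E.autGroup T := by
  suffices h : ∀ (n : ℕ) (U : Subgroup Ω) (D : Cfsg.FusionSystem U), Stage F E p D →
      Nat.card (D.autGroup T) = n →
      ∃ F₀ : Cfsg.FusionSystem (T ⊔ centralizerIn S T), Stage F E p F₀ ∧ F₀.IsNormalIn F p ∧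
        F₀.autGroup T = E.autGroup T from
    h _ S F ⟨sup_le hinv.2.1.1 (centralizerIn_le S T), hF, isInvariantIn_self F, hinv.1,
      fun _ => Iff.rfl⟩ rfl
  intro n
  induction n using Nat.strong_induction_on with
  | _ n ih =>
  intro U D hD hcard
  by_cases hne : D.autGroup T = E.autGroup T
  · have hU := carrier_eq hS hEs hinv hD hne
    subst hU
    refine ⟨D, hD, isNormalIn_of_self_centralizing ?_ hF hD.sat hD.inv, hne⟩
    exact fun c hc => Subgroup.mem_sup_right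
      ⟨hc.1, fun y hy => hc.2 y (Subgroup.mem_sup_left hy)⟩
  · obtain ⟨U', D', hD', hlt⟩ := exists_smaller hS hF hEs hinv hsolv hD hne
    exact ih _ (hcard ▸ hlt) U' D' hD' rfl

end CfsgLib.Fusion.Envelope
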