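import Cfsg.Agent.Lib.Fusion.Envelope.Good
import Cfsg.Agent.Lib.Fusion.PPrimeResidual
import Cfsg.Agent.Lib.Fusion.PPowerIndex.Residual

/-!
# The subsystem of index prime to `p` with automizer of `T` inside `B`
-/

set_option autoImplicit false

namespace CfsgLib.Fusion.Envelope

open Cfsg Cfsg.FusionSystem CfsgLib.Fusion

variable {Ω : Type*} [Group Ω] {S T : Subgroup Ω} {F : Cfsg.FusionSystem S} {E : Cfsg.FusionSystem T}
variable {P Q : Subgroup Ω} {p : ℕ} {B : Subgroup (MulAut T)}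

/-- The centric subgroups meeting `T` in a good subgroup. -/
def Base (F : Cfsg.FusionSystem S) (T P : Subgroup Ω) : Prop := F.IsCentric P ∧ Good F T (P ⊓ T)

theorem Base.mono (h : Base F T P) (hPQ : P ≤ Q) (hQ : Q ≤ S) : Base F T Q :=
  ⟨isCentric_mono h.1 hPQ hQ, h.2.mono (inf_le_inf_right _ hPQ) inf_le_right⟩

theorem Base.map [Finite S] (hinv : E.IsInvariantIn F) (h : Base F T P) {φ : P →* Ω}
    (hφ : φ ∈ F.Hom P) : Base F T φ.range :=
  ⟨isCentric_of_isConj h.1 (isConj_of_mem hφ), h.2.of_isConj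
    ⟨_, resT_mem hφ, range_resT hinv hφ⟩ inf_le_right⟩

/-- The restriction to `T` has class in `B`. -/
def InB (E : Cfsg.FusionSystem T) (B : Subgroup (MulAut T)) (φ : P →* Ω) : Prop :=
  ∃ β ∈ B, Rep E β (resT T φ)

/-- The maps with class in `B` on the base subgroups. -/
def goodSys [Finite S] [Fact p.Prime] (h : Setting F E p B) : Cfsg.FusionSystem S where
  Hom P := {φ | φ ∈ F.Hom P ∧ (Base F T P → InB E B φ)}
  le_of_mem hφ := F.le_of_mem hφ.1
  injective_of_mem hφ := F.injective_of_mem hφ.1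
  conj_mem := by
    intro P g hP hg
    refine ⟨F.conj_mem hP hg, fun _ => ?_⟩
    have hgN := stronglyClosed_le_normalizer h.inv.2.1 hg
    have hgA := autInducedBy_le_autGroup F h.inv.2.1.1 (conjAut_mem_autInducedBy (P := T) hg hgN)
    refine ⟨conjAut T g hgN, ?_, rep_conj _ inf_le_right fun _ => rfl⟩
    obtain ⟨k, hk⟩ := isPGroup_autInducedBy h.isP T ⟨_, conjAut_mem_autInducedBy (P := T) hg hgN⟩
    refine h.pow _ hgA k ?_
    rw [show conjAut T g hgN ^ p ^ k = 1 from congrArg Subtype.val hk]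
    exact one_mem _
  comp_mem := by
    rintro P Q φ ψ ⟨hφ, hφB⟩ ⟨hψ, hψB⟩ hQ
    refine ⟨F.comp_mem hφ hψ hQ, fun hb => ?_⟩
    obtain ⟨β, hβ, hrep⟩ := hφB hb
    have hQb : Base F T Q :=
      (hb.map h.inv hφ).mono (by rintro _ ⟨x, rfl⟩; exact hQ x) (dom_le hψ)
    obtain ⟨γ, hγ, hrep'⟩ := hψB hQb
    exact ⟨γ * β, B.mul_mem hγ hβ, Rep.comp (φ := resT T φ) (ψ := resT T ψ) h.inv.2.2.1 (h.B_le hβ)
      (fun x => ⟨hQ _, map_mem_base h.inv hφ x.2.2⟩) _ (fun _ => rfl) hrep hrep'⟩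
  inv_mem := by
    rintro P φ ⟨hφ, hφB⟩
    obtain ⟨ψ, hψ, hψx⟩ := F.inv_mem hφ
    refine ⟨ψ, ⟨hψ, fun hb => ?_⟩, hψx⟩
    have hbP : Base F T P := by
      have := hb.map h.inv hψ
      rwa [show ψ.range = P from le_antisymm (by rintro _ ⟨⟨_, x, rfl⟩, rfl⟩; rw [hψx]; exact x.2)
        (fun x hx => ⟨⟨φ ⟨x, hx⟩, ⟨⟨x, hx⟩, rfl⟩⟩, hψx ⟨x, hx⟩⟩)] at this
    obtain ⟨β, hβ, hrep⟩ := hφB hbP
    refine ⟨β⁻¹, B.inv_mem hβ, ?_⟩
    have hle : φ.range ⊓ T ≤ (resT T φ).range := (range_resT h.inv hφ).ge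
    refine Rep.restrict (Rep.inv h.inv.2.2.1 (h.B_le hβ) hrep
      (ψ := ψ.comp (Subgroup.inclusion (show (resT T φ).range ≤ φ.range from by
        rintro _ ⟨x, rfl⟩; exact ⟨_, rfl⟩))) fun x => hψx ⟨x, inf_le_left (b := T) x.2⟩) hle _
      fun _ => rfl

/-- The subsystem generated by the maps of the base subgroups with class in `B`. -/
def envSys [Finite S] [Fact p.Prime] (h : Setting F E p B) : Cfsg.FusionSystem S where
  Hom P := {φ | φ ∈ F.Hom P ∧ ∀ E' : Cfsg.FusionSystem S,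
    (∀ R, Base F T R → (goodSys h).Hom R ⊆ E'.Hom R) → φ ∈ E'.Hom P}
  le_of_mem hφ := F.le_of_mem hφ.1
  injective_of_mem hφ := F.injective_of_mem hφ.1
  conj_mem hP hg := ⟨F.conj_mem hP hg, fun E' _ => E'.conj_mem hP hg⟩
  comp_mem h h' hQ := ⟨F.comp_mem h.1 h'.1 hQ, fun E' hE => E'.comp_mem (h.2 E' hE) (h'.2 E' hE) hQ⟩
  inv_mem := by
    intro P φ hφ
    obtain ⟨ψ, hψ, hx⟩ := F.inv_mem hφ.1
    refine ⟨ψ, ⟨hψ, fun E' hE => ?_⟩, hx⟩
    obtain ⟨ψ', hψ', hx'⟩ := E'.inv_mem (hφ.2 E' hE)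
    have : ψ = ψ' := MonoidHom.ext fun ⟨_, x, rfl⟩ => (hx x).trans (hx' x).symm
    exact this ▸ hψ'

variable [Finite S] [Fact p.Prime] (h : Setting F E p B)
variable (hconj : ∀ γ ∈ F.autGroup T, ∀ β ∈ B, γ * β * γ⁻¹ ∈ B)

theorem envSys_subsystem : (envSys h).IsSubsystemOf F := fun _ _ hφ => hφ.1

theorem envSys_of_good (hP : Base F T P) {φ : P →* Ω} (hφ : φ ∈ F.Hom P) (hB : InB E B φ) :
    φ ∈ (envSys h).Hom P := ⟨hφ, fun _ hE => hE P hP ⟨hφ, fun _ => hB⟩⟩

theorem inB_of_envSys (hP : Base F T P) {φ : P →* Ω} (hφ : φ ∈ (envSys h).Hom P) : InB E B φ :=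
  (hφ.2 (goodSys h) fun _ _ => subset_rfl).2 hP

/-- The class is read off on any base subgroup of the source. -/
theorem envSys_closed {R : Subgroup Ω} (hQ : Base F T Q) (hQR : Q ≤ R) {ψ : R →* Ω}
    (hψ : ψ ∈ F.Hom R) (hres : ψ.comp (Subgroup.inclusion hQR) ∈ (envSys h).Hom Q) :
    ψ ∈ (envSys h).Hom R := by
  refine envSys_of_good h (hQ.mono hQR (dom_le hψ)) hψ ?_
  obtain ⟨a, ha, hrep⟩ : ∃ a ∈ F.autGroup T, Rep E a (resT T ψ) :=
    h.inv.2.2.2 _ inf_le_right _ (resT_mem hψ)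
  obtain ⟨β, hβ, hβrep⟩ := inB_of_envSys h hQ hres
  exact ⟨a, mem_B_of_reps h hQ.2 hβ ha hβrep
    (hrep.restrict (inf_le_inf_right _ hQR) _ fun _ => rfl), hrep⟩

/-- `p`-elements of the automizers of base subgroups. -/
theorem envSys_pElement (hQ : Base F T Q) {α : MulAut Q} (hα : α ∈ F.autGroup Q) {k : ℕ}
    (hk : orderOf α = p ^ k) : α ∈ (envSys h).autGroup Q := by
  have hQS := hQ.1.1
  refine (mem_autGroup_iff_hom hQS).2 (envSys_of_good h hQ ((mem_autGroup_iff_hom hQS).1 hα) ?_)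
  obtain ⟨a, ha, hrep⟩ : ∃ a ∈ F.autGroup T, Rep E a (resT T (Q.subtype.comp α.toMonoidHom)) :=
    h.inv.2.2.2 _ inf_le_right _ (resT_mem ((mem_autGroup_iff_hom hQS).1 hα))
  refine ⟨a, h.pow a ha k ?_, hrep⟩
  refine mem_B_of_reps h hQ.2 B.one_mem (pow_mem ha _)
    (φ := resT T (Q.subtype.comp (α ^ p ^ k).toMonoidHom)) ?_ (rep_pow h ha hα hQS hrep _)
  rw [← hk, pow_orderOf_eq_one]
  exact rep_conj 1 inf_le_right fun _ => rfl

theorem envSys_oPAut (hQ : Base F T Q) : oPAut F p Q ≤ (envSys h).autGroup Q :=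
  oPAut_le_of_forall fun _ hα hk => hk.elim fun _ hk => envSys_pElement h hQ hα hk

omit [Finite S] [Fact p.Prime] in
/-- Good subgroups are permuted by a system in which `F` and `E` are invariant. -/
theorem Good.of_outer {R : Subgroup Ω} {G : Cfsg.FusionSystem R} (hFG : F.IsInvariantIn G)
    (hTG : G.StronglyClosed T) {W W' : Subgroup Ω} (hTS : T ≤ S) (hW : Good F T W)
    (hc : G.IsConj W W') (hW'T : W' ≤ T) : Good F T W' := by
  refine ⟨hW'T, fun V hV c hcV => ?_⟩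
  obtain ⟨φ, hφ, rfl⟩ := isConj_trans hc (CfsgLib.FusionQuot.isConj_of_subsystem hFG.1 hV)
  obtain ⟨a, ha, φ₀, hφ₀, hx⟩ := hFG.2.2.2 W (hW.1.trans hTS) φ hφ
  have hinvT : ∀ {z : S}, (z : Ω) ∈ T → (((a⁻¹ : MulAut S) z : S) : Ω) ∈ T := fun {z} hz =>
    stronglyClosed_apply_mem hTG
      ((mem_autGroup_iff_hom hFG.2.1.1).1 ((G.autGroup S).inv_mem ha)) z hz
  have hcS : c ∈ S := hTS hcV.1
  have hc' : ((a⁻¹ : MulAut S) ⟨c, hcS⟩ : Ω) ∈ centralizerIn T φ₀.range := by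
    refine ⟨hinvT hcV.1, Subgroup.mem_centralizer_iff.2 ?_⟩
    rintro _ ⟨x, rfl⟩
    have h1 := Subgroup.mem_centralizer_iff.1 hcV.2 (φ x) ⟨x, rfl⟩
    rw [hx x (map_mem hφ₀ x)] at h1
    have h2 : a ⟨φ₀ x, map_mem hφ₀ x⟩ * ⟨c, hcS⟩ = ⟨c, hcS⟩ * a ⟨φ₀ x, map_mem hφ₀ x⟩ := Subtype.ext h1
    have h3 := congrArg (a⁻¹ : MulAut S) h2
    rw [map_mul, map_mul, MulAut.inv_apply_self] at h3
    exact congrArg Subtype.val h3
  obtain ⟨x, hx'⟩ := hW.2 _ (isConj_of_mem hφ₀) hc'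
  refine ⟨x, (hx x (map_mem hφ₀ x)).trans ?_⟩
  rw [show (⟨φ₀ x, map_mem hφ₀ x⟩ : S) = (a⁻¹ : MulAut S) ⟨c, hcS⟩ from Subtype.ext hx',
    MulAut.apply_inv_self]

/-- A system in which `F` and `E` are invariant and which normalizes `B` preserves the new subsystem. -/
theorem envSys_pres {R : Subgroup Ω} [Finite R] {G : Cfsg.FusionSystem R} (hFG : F.IsInvariantIn G)
    (hEG : E.IsInvariantIn G) (hBG : ∀ γ ∈ G.autGroup T, ∀ β ∈ B, γ * β * γ⁻¹ ∈ B) :
    ∀ a ∈ G.autGroup S, Pres (envSys h) a := by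
  intro a ha
  have hSR : S ≤ R := hFG.2.1.1
  have hTR : T ≤ R := hEG.2.1.1
  have hTS : T ≤ S := h.inv.2.1.1
  have : Finite T := finite_of_le hTR
  have haG := (mem_autGroup_iff_hom hSR).1 ha
  have haT : ∀ x : T, ((a ⟨x, hTS x.2⟩ : S) : Ω) ∈ T := fun x =>
    stronglyClosed_apply_mem hEG.2.1 haG ⟨x, hTS x.2⟩ x.2
  obtain ⟨a₀, ha₀, ha₀x⟩ := exists_aut (restrict_mem haG hTS)
    (range_eq_of_le (hom_inj (restrict_mem haG hTS)) haT)
  have hgen : ∀ Q, Base F T Q → ∀ φ ∈ (goodSys h).Hom Q, φ ∈ (twistSystem (envSys h) a).Hom Q := by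
    rintro Q hQ φ ⟨hφ, hφB⟩
    have hQS : Q ≤ S := hQ.1.1
    obtain ⟨χ, hχ, hχx⟩ := autInvariant_conj hFG.2.2.1 hφ ha
    obtain ⟨e, he, hex⟩ := FusionWeakNormal.exists_autIso hFG ha hQS
    obtain ⟨eW, heW, hWr⟩ : ∃ ψ ∈ G.Hom (Q ⊓ T), ψ = resT T ((autImg a Q).subtype.comp e.toMonoidHom)
        ∧ ψ.range = autImg a Q ⊓ T := by
      refine ⟨_, resT_mem he, rfl, ?_⟩
      rw [range_resT hEG he, range_subtype_comp]
    have hbase : Base F T (autImg a Q) := ⟨FusionWeakNormal.isCentric_of_fConj hFG hQ.1 he.isConj,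
      Good.of_outer hFG hEG.2.1 hTS hQ.2 ⟨eW, heW, hWr.2⟩ inf_le_right⟩
    refine ⟨hQS, hom_inj hφ, map_mem hφ, χ, envSys_of_good h hbase hχ ?_, fun x hx hax => hχx x hax⟩
    obtain ⟨β, hβ, φ₀, hφ₀, hβx⟩ := hφB hQ
    obtain ⟨η, hη, hηx⟩ := autInvariant_conj hEG.2.2.1 hφ₀ ha₀
    have hkey : ∀ y : ↥(autImg a Q ⊓ T), ∃ x : ↥(Q ⊓ T),
        ((a ⟨x, hQS (inf_le_left (b := T) x.2)⟩ : S) : Ω) = y := by
      intro y
      obtain ⟨x, hx⟩ := hWr.2.ge y.2
      refine ⟨x, ?_⟩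
      rw [← hx, hWr.1]
      exact (hex ⟨x, _⟩).symm
    have hle : autImg a Q ⊓ T ≤ ((Q ⊓ T).subgroupOf T).map (T.subtype.comp a₀.toMonoidHom) := by
      intro y hy
      obtain ⟨x, hx⟩ := hkey ⟨y, hy⟩
      exact (autImage_eq a₀ inf_le_right y).2 ⟨x, (ha₀x _).trans hx⟩
    refine ⟨a₀ * β * a₀⁻¹, hBG a₀ ha₀ β hβ, _, restrict_mem hη hle, fun y hyT => ?_⟩
    obtain ⟨x, hx⟩ := hkey y
    have hxT : (x : Ω) ∈ T := inf_le_right (a := Q) x.2
    have e1 : ((a₀ ⟨x, hxT⟩ : T) : Ω) = y := (ha₀x _).trans hx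
    have h1 : η ⟨y, hle y.2⟩ = ((a₀ ⟨φ₀ x, map_mem hφ₀ x⟩ : T) : Ω) :=
      (congrArg η (Subtype.ext e1.symm)).trans (hηx x (e1.symm ▸ hle y.2))
    rw [MulAut.mul_apply, MulAut.mul_apply, show (⟨_, hyT⟩ : T) = a₀ ⟨φ₀ x, map_mem hφ₀ x⟩ from
      Subtype.ext h1, MulAut.inv_apply_self]
    set x' : Q := ⟨x, inf_le_left (b := T) x.2⟩ with hx'
    have h3 := hχx x' (hx.symm ▸ inf_le_left (b := T) y.2)
    refine Eq.trans ((congrArg χ (Subtype.ext hx.symm)).trans h3) ?_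
    have h4 : φ x' = ((β ⟨φ₀ x, map_mem hφ₀ x⟩ : T) : Ω) := hβx x (map_mem hφ₀ x)
    rw [show (⟨φ x', map_mem hφ x'⟩ : S) = ⟨_, hTS (β ⟨φ₀ x, map_mem hφ₀ x⟩).2⟩ from Subtype.ext h4]
    exact (ha₀x _).symm
  intro P φ hφ
  obtain ⟨-, -, hφS, χ, hχ, hχx⟩ := hφ.2 _ fun Q hQ φ hφ => hgen Q hQ φ hφ
  exact ⟨χ, hχ, fun x hx hφ hax => hχx x hx hax⟩

include hconj in
/-- The Frattini factorization. -/
theorem envSys_factors : ∀ (P : Subgroup Ω) (φ : P →* Ω), φ ∈ F.Hom P → Factors (envSys h) F φ := by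
  set D := envSys h with hD
  have hinv : IsAutInvariant D F := by
    intro P hPS φ hφ a ha
    obtain ⟨χ, hχ, hχx⟩ := envSys_pres h (isInvariantIn_self F) h.inv (fun γ hγ β hβ => hconj γ hγ β hβ)
      a ha P φ hφ
    exact ⟨χ, hχ, fun x hφx hax => hχx x (hPS x.2) hφx hax⟩
  have hS := h.isP
  have hF := h.sat
  refine CfsgLib.FusionQuot.hom_induction hS hF (fun _ φ => Factors D F φ) ?_ ?_ ?_ ?_ ?_
  · exact fun P Q φ _ h χ hχ hf => factors_restrict h χ hχ hf
  · exact fun P Q φ ψ _ _ h χ hχ h₁ h₂ => factors_comp hinv le_rfl h χ hχ h₁ h₂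
  · intro P φ hφ Q hr ψ hψ hψx hf
    obtain ⟨e, he, hex⟩ := exists_iso hφ hr
    have h1 : Q.subtype.comp e.toMonoidHom = φ := MonoidHom.ext hex
    have h2 : P.subtype.comp e.symm.toMonoidHom = ψ := by
      refine MonoidHom.ext fun y => ?_
      obtain ⟨x, rfl⟩ := e.surjective y
      show ((e.symm (e x) : P) : Ω) = _
      rw [MulEquiv.symm_apply_apply, ← hψx x (hex x ▸ (e x).2)]
      exact congrArg ψ (Subtype.ext (hex x).symm)
    rw [← h2]
    exact factors_symm hinv le_rfl ⟨le_rfl, fun R hR χ hχ => map_mem hχ⟩ he (dom_le hφ) (h1.symm ▸ hf)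
  · intro φ hφ
    obtain ⟨e, he, hex⟩ := exists_iso hφ (isConj_top_eq (isConj_of_mem hφ))
    exact ⟨e, (mem_autGroup_iff le_rfl).2 he, S.subtype, subtype_mem D le_rfl, fun x _ => (hex x).symm⟩
  · intro Q hQ hlt hIH α hα
    have hQS : Q ≤ S := hQ.1
    have hrec := isReceptive_of_isFullyNormalized hS hF hQ
    have hbig : ∀ R : Subgroup Ω, Q < R → R ≤ normalizerIn S Q →
        ∀ γ ∈ F.autGroup Q, (∀ g (hg : g ∈ R) (hgN : g ∈ Subgroup.normalizer (Q : Set Ω)),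
          MulAut.congr (γ : Q ≃* Q) (conjAut Q g hgN) ∈ autInducedBy S Q) →
        Factors D F (Q.subtype.comp γ.toMonoidHom) := by
      intro R hQR hR γ hγ hact
      have hiso : IsFIso F (γ : Q ≃* Q) := (mem_autGroup_iff hQS).1 hγ
      obtain ⟨ψ, hψ, -, hag⟩ := hiso.exists_extension hrec hQR.le hR fun g hg => hact g hg (hR hg).2
      exact factors_restrict (φ := ψ) hQR.le _ (fun x => (hag x).symm)
        (hIH R ψ hψ (Descent.card_lt_card_of_lt (hR.trans (normalizerIn_le S Q)) hQR))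
    by_cases hC : centralizerIn S Q ≤ Q
    swap
    · refine hbig (Q ⊔ centralizerIn S Q) (lt_of_le_of_ne le_sup_left fun h => hC (le_sup_right.trans h.ge))
        (sup_le (le_normalizerIn hQS) (centralizerIn_le_normalizerIn S Q)) α hα fun g hg hgN => ?_
      have hle : Q ⊔ centralizerIn S Q ≤ extender S Q (Q.subtype.comp α.toMonoidHom) :=
        sup_le (le_extender hQS fun x => hQS (α x).2) (centralizerIn_le_extender _)
      have h1 := mem_extender_iff.1 (hle hg)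
      exact (mem_extender_iff_congr (α : Q ≃* Q) (φ := Q.subtype.comp α.toMonoidHom) (fun _ => rfl)
        h1.1 hgN).1 (hle hg)
    have hcen : F.IsCentric Q := Descent.isCentric_of_centralizerIn_le
      (isFullyCentralized_of_isFullyNormalized hS hF hQ) hC
    have : Finite Q := finite_of_le hQS
    have : Finite (MulAut Q) := finite_mulAut
    obtain ⟨-, TS, hTS'⟩ := isFullyAutomized_of_isFullyNormalized hS hF hQ
    by_cases hQb : Good F T (Q ⊓ T)
    swap
    · -- not radical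
      have hcoreS : SatCriterion.coreAut F p Q ≤ autInducedBy S Q := by
        rintro _ ⟨γ, hγ, rfl⟩
        have := CfsgLib.Solvable.pCore_le_sylow TS hγ
        rwa [hTS'] at this
      obtain ⟨Q₂, hQ₂, hs⟩ := exists_star h hcen hQb
      obtain ⟨e, he⟩ := exists_iso_of_isConj (isConj_symm hQ₂)
      have hnc : ¬ SatCriterion.coreAut F p Q ≤ Cfsg.Inn Q := by
        intro hle
        refine star_core h (fun _ => subset_rfl) (isCentric_of_isConj hcen hQ₂) hs ?_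
        rintro γ ⟨-, a, ha, rfl⟩
        have h1 : (he.autEquiv a : MulAut Q) ∈ SatCriterion.coreAut F p Q :=
          ⟨he.autEquiv a, (CfsgLib.Solvable.map_pCore_mulEquiv (p := p) he.autEquiv).le ⟨a, ha, rfl⟩, rfl⟩
        obtain ⟨z, hz⟩ := hle h1
        refine ⟨e.symm z, MulEquiv.ext fun y => e.injective ?_⟩
        have h2 := congrArg (fun b : MulAut Q => b (e y)) hz
        simp only [IsFIso.autEquiv_apply, congr_apply, MulEquiv.symm_apply_apply] at h2
        simpa using h2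
      obtain ⟨c, hc, hcI⟩ := SetLike.not_le_iff_exists.1 hnc
      obtain ⟨g, hgN, hgS, rfl⟩ := exists_eq_conjAut (hcoreS hc)
      have hgK : g ∈ SatCriterion.coreNorm F p Q := SatCriterion.mem_coreNorm.2 ⟨hgS, hgN, hc⟩
      have hgQ : g ∉ Q := fun hgQ => hcI ((inn_eq_autInducedBy Q).ge (conjAut_mem_autInducedBy hgQ hgN))
      refine hbig (SatCriterion.coreNorm F p Q)
        (lt_of_le_of_ne (SatCriterion.le_coreNorm hS hQS) fun h => hgQ (h.ge hgK))
        SatCriterion.coreNorm_le α hα fun y hy hyN => hcoreS ?_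
      obtain ⟨-, hyN', hyc⟩ := SatCriterion.mem_coreNorm.1 hy
      rw [show MulAut.congr (α : Q ≃* Q) (conjAut Q y hyN) = α * conjAut Q y hyN' * α⁻¹ from
        MulEquiv.ext fun _ => rfl]
      exact SatCriterion.conj_mem_coreAut hα hyc
    set O := (oPAut F p Q).subgroupOf (F.autGroup Q) with hO
    have hOn : O.Normal := ⟨fun c hc β => Subgroup.mem_subgroupOf.2 (by
      have h1 := IsFIso.congr_mem_oPAut ((mem_autGroup_iff hQS).1 β.2) hc
      exact h1)⟩
    have hTO : (TS : Subgroup (F.autGroup Q)) ≤ O := by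
      rw [hTS']
      exact fun x hx => autInducedBy_le_oPAut hS hQS hx
    have hfr := Sylow.normalizer_sup_eq_top (TS.subtype hTO)
    rw [sup_comm, Sylow.coe_subtype, Subgroup.map_subgroupOf_eq_of_le hTO] at hfr
    have hmem : (⟨α, hα⟩ : F.autGroup Q) ∈ (↑(O ⊔ Subgroup.normalizer
        ((TS : Subgroup (F.autGroup Q)) : Set _)) : Set _) := by
      rw [hfr]; trivial
    rw [Subgroup.normal_mul] at hmem
    obtain ⟨κ, hκ, β, hβ, hκβ⟩ := hmem
    have hCβ : Factors D F (Q.subtype.comp (β : MulAut Q).toMonoidHom) := by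
      refine hbig (normalizerIn S Q) (lt_normalizerIn hS hlt) le_rfl _ β.2 fun g hg hgN => ?_
      have hc : (⟨conjAut Q g hgN, autInducedBy_le_autGroup F hQS (conjAut_mem_autInducedBy hg.1 hgN)⟩ :
          F.autGroup Q) ∈ (TS : Subgroup (F.autGroup Q)) := by
        rw [hTS']
        exact conjAut_mem_autInducedBy (P := Q) hg.1 hgN
      have h2 := conj_mem_of_mem_normalizer hβ hc
      rw [hTS'] at h2
      exact h2
    refine factors_comp hinv le_rfl (fun x => ((β : MulAut Q) x).2) _ (fun x => ?_) hCβ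
      (factors_of_mem le_rfl ((mem_autGroup_iff_hom hQS).1 (envSys_oPAut h ⟨hcen, hQb⟩ hκ)))
    exact (congrArg (fun γ : F.autGroup Q => (((γ : MulAut Q) x : Q) : Ω)) hκβ).symm

include hconj in
/-- The subsystem is invariant. -/
theorem envSys_invariant : (envSys h).IsInvariantIn F := by
  refine ⟨envSys_subsystem h, ⟨le_rfl, fun R _ φ hφ x => map_mem hφ x⟩, ?_, fun P _ φ hφ =>
    envSys_factors h hconj P φ hφ⟩
  intro P hPS φ hφ a ha
  obtain ⟨χ, hχ, hχx⟩ := envSys_pres h (isInvariantIn_self F) h.inv hconj a ha P φ hφ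
  exact ⟨χ, hχ, fun x hφx hax => hχx x (hPS x.2) hφx hax⟩

include hconj in
theorem envSys_saturated : (envSys h).IsSaturated p := by
  set D := envSys h with hD
  have hS := h.isP
  have hF := h.sat
  have hDF : D.IsSubsystemOf F := envSys_subsystem h
  have hcent : ∀ {P}, D.IsCentric P ↔ F.IsCentric P :=
    isCentric_iff_of_factors hDF (envSys_factors h hconj)
  refine SatCriterion.isSaturated_of_family hS {P | Base F T P} ?_ (fun P hP => ?_) (fun E' hE' => ?_) ?_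
  · intro P hP Q hQ
    obtain ⟨φ, hφ, rfl⟩ := hQ
    exact Base.map h.inv hP (hDF P hφ)
  · obtain ⟨Q, hPQ, hQ⟩ := exists_isFullyNormalized F hP.1.1
    obtain ⟨φ, hφ, hr⟩ := hPQ
    obtain ⟨a, ha, φ₀, hφ₀, hx⟩ := envSys_factors h hconj P φ hφ
    set R := autImg a⁻¹ Q with hRdef
    obtain ⟨e, he, hex⟩ : ∃ e : Q ≃* R, IsFIso F e ∧
        ∀ x : Q, (e x : Ω) = (((a⁻¹ : MulAut S) ⟨x, hQ.1 x.2⟩ : S) : Ω) :=
      exists_autIso ((F.autGroup S).inv_mem ha) hQ.1
    have hR : φ₀.range = R := by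
      subst hr
      ext y
      rw [hRdef, mem_autImg]
      constructor
      · rintro ⟨x, rfl⟩
        refine ⟨⟨φ x, map_mem hφ x⟩, ⟨x, rfl⟩, ?_⟩
        rw [show (⟨φ x, map_mem hφ x⟩ : S) = a ⟨φ₀ x, map_mem hφ₀ x⟩ from Subtype.ext (hx x _),
          MulAut.inv_apply_self]
      · rintro ⟨s, ⟨x, hxs⟩, rfl⟩
        refine ⟨x, ?_⟩
        rw [show s = a ⟨φ₀ x, map_mem hφ₀ x⟩ from Subtype.ext (hxs.symm.trans (hx x _)),
          MulAut.inv_apply_self]
    have hPR : D.IsConj P R := ⟨φ₀, hφ₀, hR⟩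
    have hPR' := CfsgLib.FusionQuot.isConj_of_subsystem hDF hPR
    have hRn : F.IsFullyNormalized R := by
      refine ⟨isConj_le_right hPR', fun R' hR' => ?_⟩
      refine le_trans (hQ.2 R' (isConj_trans he.isConj hR')) ?_
      have : Finite (normalizerIn S R) := finite_of_le (normalizerIn_le S R)
      exact Nat.card_le_card_of_injective (fun x => (⟨((a⁻¹ : MulAut S) ⟨x, x.2.1⟩ : S),
        ((a⁻¹ : MulAut S) _).2, map_mem_normalizer_of_extends
          (ψ := S.subtype.comp (a⁻¹ : MulAut S).toMonoidHom) (e := e) hQ.1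
          (fun z => (hex z).symm) x.2.1 x.2.2⟩ : normalizerIn S R))
        fun x y h => by
          have h1 := congrArg Subtype.val h
          have h2 := (a⁻¹ : MulAut S).injective (Subtype.ext h1)
          have h3 : (x : Ω) = y := congrArg (Subtype.val : S → Ω) h2
          exact Subtype.ext h3
    refine ⟨R, hPR, ⟨hRn.1, ?_⟩, hRn.1, fun X χ hχ hχr => ?_⟩
    · have : Finite R := finite_of_le hRn.1
      have : Finite (MulAut R) := finite_mulAut
      have hsyl : IsSylowIn p (autInducedBy S R) (F.autGroup R) :=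
        (isFullyAutomized_of_isFullyNormalized hS hF hRn).2
      exact isSylowIn_of_card_le (isPGroup_autInducedBy hS R) (autInducedBy_le_autGroup D hRn.1)
        fun U hU hUE => hsyl.card_le (autInducedBy_le_autGroup F hRn.1) hU
          (hUE.trans (CfsgLib.FusionQuot.autGroup_le_of_subsystem hDF R))
    · obtain ⟨ψ, hψ, hψx⟩ := (isReceptive_of_isFullyNormalized hS hF hRn).2 X χ (hDF X hχ) hχr
      have hXle : X ≤ extender S X χ := le_extender (dom_le hχ) (map_mem hχ)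
      have hXb : Base F T X := by
        have hRb : Base F T R := hR ▸ hP.map h.inv (hDF P hφ₀)
        obtain ⟨θ, hθ, hθr⟩ := isConj_symm (⟨χ, hDF X hχ, hχr⟩ : F.IsConj X R)
        exact hθr ▸ hRb.map h.inv hθ
      exact ⟨ψ, envSys_closed h hXb hXle hψ (mem_of_restrict hχ le_rfl _ fun x => hψx x x.2 (hXle x.2)),
        hψx⟩
  · intro P φ hφ
    exact hφ.2 E' fun R hR ψ hψ => hE' R hR (envSys_of_good h hR hψ.1 (hψ.2 hR))
  · intro P hPc hPn
    have hPc' := hcent.1 hPc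
    obtain ⟨Q, hPQ, hs⟩ := exists_star h hPc' fun hg => hPn ⟨hPc', hg⟩
    obtain ⟨φ, hφ, hr⟩ := hPQ
    obtain ⟨a, ha, φ₀, hφ₀, hx⟩ := envSys_factors h hconj P φ hφ
    refine ⟨φ₀.range, isConj_of_mem hφ₀, star_core h hDF
      (isCentric_of_isConj hPc' (isConj_of_mem (hDF P hφ₀))) ?_⟩
    -- pull the witness back
    obtain ⟨x, hxT, hxN, hxQ, hxc⟩ := hs
    have hTS : T ≤ S := h.inv.2.1.1
    have haF := (mem_autGroup_iff_hom le_rfl).1 ha
    have haF' := (mem_autGroup_iff_hom le_rfl).1 ((F.autGroup S).inv_mem ha)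
    have hRS : φ₀.range ≤ S := range_le hφ₀
    have himg : ∀ z : S, (z : Ω) ∈ φ₀.range ↔ ((a z : S) : Ω) ∈ Q := by
      subst hr
      intro z
      constructor
      · rintro ⟨u, hu⟩
        refine ⟨u, (hx u (map_mem hφ₀ u)).trans ?_⟩
        exact congrArg (fun t : S => ((a t : S) : Ω)) (Subtype.ext hu)
      · rintro ⟨u, hu⟩
        refine ⟨u, ?_⟩
        have h1 := a.injective (Subtype.ext ((hx u (map_mem hφ₀ u)).symm.trans hu))
        exact congrArg Subtype.val h1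
    set x' : S := (a⁻¹ : MulAut S) ⟨x, hTS hxT⟩ with hx'
    have hax' : a x' = ⟨x, hTS hxT⟩ := MulAut.apply_inv_self _ _ _
    refine ⟨x', stronglyClosed_apply_mem h.inv.2.1 haF' ⟨x, hTS hxT⟩ hxT, ?_, fun hmem => hxQ ?_,
      fun y hy hyT => ?_⟩
    · refine Subgroup.mem_normalizer_iff.2 fun y => ?_
      constructor <;> intro hy
      · have hyS : y ∈ S := hRS hy
        refine (himg (x' * ⟨y, hyS⟩ * x'⁻¹)).2 ?_
        rw [map_mul, map_mul, map_inv, hax']
        exact (Subgroup.mem_normalizer_iff.1 hxN _).1 ((himg ⟨y, hyS⟩).1 hy)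
      · have hyS : y ∈ S := by
          have := S.mul_mem (S.mul_mem (S.inv_mem x'.2) (hRS hy)) x'.2
          simpa [mul_assoc] using this
        have h1 := (himg (x' * ⟨y, hyS⟩ * x'⁻¹)).1 hy
        rw [map_mul, map_mul, map_inv, hax'] at h1
        exact (himg ⟨y, hyS⟩).2 ((Subgroup.mem_normalizer_iff.1 hxN _).2 h1)
    · have := (himg x').1 hmem
      rwa [hax'] at this
    · have h1 := hxc _ ((himg ⟨y, hRS hy⟩).1 hy)
        (stronglyClosed_apply_mem h.inv.2.1 haF ⟨y, hRS hy⟩ hyT)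
      have h2 : a x' * a ⟨y, hRS hy⟩ = a ⟨y, hRS hy⟩ * a x' := Subtype.ext (by rw [hax']; exact h1)
      rw [← map_mul, ← map_mul] at h2
      exact congrArg Subtype.val (a.injective h2)

include hconj in
theorem envSys_index : (envSys h).HasPrimeToPIndexIn F p :=
  ⟨envSys_subsystem h, fun _ hP =>
    oPAut_le_autGroup_of_invariant h.isP h.sat (envSys_invariant h hconj) hP⟩

include h in
/-- `T C_S(T)` is a base subgroup. -/
theorem base_top : Base F T (T ⊔ centralizerIn S T) := by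
  have hTS : T ≤ S := h.inv.2.1.1
  have hUS : T ⊔ centralizerIn S T ≤ S := sup_le hTS (centralizerIn_le S T)
  have : Finite T := finite_of_le hTS
  have hTimg : ∀ (U : Subgroup Ω) (φ : U →* Ω), φ ∈ F.Hom U → T ≤ U → T ≤ φ.range := by
    intro U φ hφ hTU
    have h1 := range_eq_of_le (hom_inj (restrict_mem hφ hTU))
      (fun x : T => map_mem_base h.inv hφ (x := ⟨x, hTU x.2⟩) x.2)
    intro y hy
    obtain ⟨x, hx⟩ := h1.ge hy
    exact ⟨_, hx⟩
  refine ⟨⟨hUS, fun Q hQ c hc => ?_⟩, ?_⟩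
  · obtain ⟨φ, hφ, rfl⟩ := hQ
    have hcC : c ∈ centralizerIn S T :=
      ⟨hc.1, fun y hy => hc.2 y (hTimg _ φ hφ le_sup_left hy)⟩
    have : Finite ↥(T ⊔ centralizerIn S T) := finite_of_le hUS
    -- the image is `T C_S(T)` again
    have hle : φ.range ≤ T ⊔ centralizerIn S T := by
      rintro _ ⟨u, rfl⟩
      have h1 : ∀ v : ↥(T ⊔ centralizerIn S T), (v : Ω) ∈ centralizerIn S T →
          φ v ∈ centralizerIn S T := by
        intro v hv
        refine ⟨map_mem hφ v, Subgroup.mem_centralizer_iff.2 fun y hy => ?_⟩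
        obtain ⟨z, hz⟩ := hTimg _ φ hφ le_sup_left hy
        obtain ⟨ψ, hψ, hψx⟩ := F.inv_mem hφ
        have hzT : (z : Ω) ∈ T := by
          have h2 := map_mem_base h.inv hψ (x := ⟨y, z, hz⟩) hy
          rwa [show ψ ⟨y, z, hz⟩ = (z : Ω) by
            rw [← hψx z]; exact congrArg ψ (Subtype.ext hz.symm)] at h2
        rw [← hz, ← map_mul, ← map_mul]
        exact congrArg φ (Subtype.ext (Subgroup.mem_centralizer_iff.1 hv.2 z hzT))
      have hmap : ((T ⊔ centralizerIn S T).subgroupOf (T ⊔ centralizerIn S T)).map φ ≤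
          T ⊔ centralizerIn S T := by
        rw [Subgroup.subgroupOf_sup le_sup_left le_sup_right, Subgroup.map_sup]
        refine sup_le (fun y hy => ?_) (fun y hy => ?_)
        · obtain ⟨v, hv, rfl⟩ := hy
          exact Subgroup.mem_sup_left (map_mem_base h.inv hφ hv)
        · obtain ⟨v, hv, rfl⟩ := hy
          exact Subgroup.mem_sup_right (h1 v hv)
      exact hmap (map_subgroupOf_self φ ▸ ⟨u, rfl⟩)
    have heq : φ.range = T ⊔ centralizerIn S T := Subgroup.eq_of_le_of_card_ge hle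
      (Nat.card_congr (MonoidHom.ofInjective (hom_inj hφ)).toEquiv).le
    exact heq.ge (Subgroup.mem_sup_right hcC)
  · refine ⟨inf_le_right, fun W' hW' => ?_⟩
    obtain ⟨φ, hφ, rfl⟩ := hW'
    exact fun c hc => hTimg _ φ hφ (le_inf le_sup_left le_rfl) hc.1

/-- Automorphisms of `T` extend to `T C_S(T)`. -/
theorem exists_ext (hS : IsPGroup p S) {G : Cfsg.FusionSystem S} (hG : G.IsSaturated p) (hT : G.IsFullyNormalized T)
    {a : MulAut T} (ha : a ∈ G.autGroup T) :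
    ∃ ψ ∈ G.Hom (T ⊔ centralizerIn S T), ∀ x : T, ψ ⟨x, le_sup_left (b := centralizerIn S T) x.2⟩ = (a x : Ω) := by
  have hTS := hT.1
  obtain ⟨ψ, hψ, -, hψx⟩ := ((mem_autGroup_iff hTS).1 ha).exists_extension
    (isReceptive_of_isFullyNormalized hS hG hT) (R := T ⊔ centralizerIn S T) le_sup_left
    (sup_le (le_normalizerIn hTS) (centralizerIn_le_normalizerIn S T)) fun g hg => by
      have hle : T ⊔ centralizerIn S T ≤ extender S T (T.subtype.comp a.toMonoidHom) :=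
        sup_le (le_extender hTS fun x => hTS (a x).2) (centralizerIn_le_extender _)
      exact (mem_extender_iff_congr (a : T ≃* T) (φ := T.subtype.comp a.toMonoidHom) (fun _ => rfl)
        (mem_extender_iff.1 (hle hg)).1 (mem_extender_iff.1 (hle hg)).2.1).1 (hle hg)
  exact ⟨ψ, hψ, hψx⟩

include hconj in
/-- The automizer of `T` lies in `B`. -/
theorem envSys_autGroup_le : (envSys h).autGroup T ≤ B := by
  intro a ha
  have hTS : T ≤ S := h.inv.2.1.1
  have hTn : (envSys h).IsFullyNormalized T := by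
    refine ⟨hTS, fun Q hQ => ?_⟩
    exact (FusionWeakNormal.isFullyNormalized_base h.inv).2 Q
      (CfsgLib.FusionQuot.isConj_of_subsystem (envSys_subsystem h) hQ)
  obtain ⟨ψ, hψ, hψx⟩ := exists_ext h.isP (envSys_saturated h hconj) hTn ha
  obtain ⟨β, hβ, hrep⟩ := inB_of_envSys h (base_top h) hψ
  have haF := CfsgLib.FusionQuot.autGroup_le_of_subsystem (envSys_subsystem h) T ha
  exact mem_B_of_reps h (base_top h).2 hβ haF hrep
    (rep_conj a inf_le_right fun x => hψx ⟨x, inf_le_right (a := T ⊔ centralizerIn S T) x.2⟩)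

include hconj in
/-- `E` lies in the new subsystem. -/
theorem le_envSys : E.IsSubsystemOf (envSys h) := by
  set D := envSys h with hD
  have hTS : T ≤ S := h.inv.2.1.1
  have : Finite T := finite_of_le hTS
  have hidx := envSys_index h hconj
  have hgen : ∀ P φ, φ ∈ (pPrimeGenSystem E p).Hom P → φ ∈ D.Hom P := by
    intro P φ hφ
    refine (hφ.2 (PPowerIndex.restrictTo D T hTS) fun Q hQ α hα => ?_).1
    refine (mem_autGroup_iff_hom hQ.1).2 ⟨?_, hQ.1, fun x => hQ.1 (α x).2⟩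
    refine (mem_autGroup_iff_hom (hQ.1.trans hTS)).1 (oPAut_le_of_forall (H := D.autGroup Q) ?_ hα)
    intro β hβ ⟨k, hk⟩
    exact hidx.2 Q (hQ.1.trans hTS) (mem_oPAut
      (CfsgLib.FusionQuot.autGroup_le_of_subsystem h.inv.1 Q hβ) hk)
  intro P φ hφ
  have hPT : P ≤ T := dom_le hφ
  obtain ⟨a, ha, φ₀, hφ₀, hx⟩ := pPrimeGenSystem_factors (h.isP.to_le hTS) h.satE P φ hφ
  have haF := CfsgLib.FusionQuot.autGroup_le_of_subsystem h.inv.1 T ha
  obtain ⟨ψ, hψ, hψx⟩ := exists_ext h.isP h.sat (FusionWeakNormal.isFullyNormalized_base h.inv) haF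
  have hψD : ψ ∈ D.Hom (T ⊔ centralizerIn S T) := envSys_of_good h (base_top h) hψ ⟨a, h.le_B ha,
    rep_conj a inf_le_right fun x => hψx ⟨x, inf_le_right (a := T ⊔ centralizerIn S T) x.2⟩⟩
  exact mem_of_comp (hgen P φ₀ hφ₀) hψD
    (fun x => le_sup_left (b := centralizerIn S T) (map_mem hφ₀.1 x)) φ fun x =>
      (hx x (map_mem hφ₀.1 x)).trans (hψx ⟨φ₀ x, map_mem hφ₀.1 x⟩).symm

end CfsgLib.Fusion.Envelope
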