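import Cfsg.Agent.Lib.Fusion.PPrimeCentric
import Cfsg.Agent.Lib.FusionWeakNormal.Basic

/-!
# Maps written as an automorphism of `T` after a map of an invariant subsystem

`Rep E a φ` says `φ = a ∘ e` with `e` in `E`; also invariance of a characteristic subsystem of an invariant
subsystem.
-/

set_option autoImplicit false

namespace CfsgLib.Fusion.Envelope

open Cfsg Cfsg.FusionSystem CfsgLib.Fusion

variable {Ω : Type*} [Group Ω] {S T : Subgroup Ω} {F : Cfsg.FusionSystem S} {E : Cfsg.FusionSystem T}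
variable {P Q W : Subgroup Ω} {p : ℕ}

/-- `φ` is `a` after a map of `E`. -/
def Rep (E : Cfsg.FusionSystem T) (a : MulAut T) (φ : P →* Ω) : Prop :=
  ∃ φ₀ ∈ E.Hom P, ∀ (x : P) (hx : φ₀ x ∈ T), φ x = ((a ⟨φ₀ x, hx⟩ : T) : Ω)

theorem rep_of_mem {φ : P →* Ω} (hφ : φ ∈ E.Hom P) : Rep E 1 φ := ⟨φ, hφ, fun _ _ => rfl⟩

theorem rep_conj (a : MulAut T) (hWT : W ≤ T) {φ : W →* Ω}
    (h : ∀ x : W, φ x = ((a ⟨x, hWT x.2⟩ : T) : Ω)) : Rep E a φ :=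
  ⟨W.subtype, subtype_mem E hWT, fun x _ => h x⟩

theorem Rep.restrict {a : MulAut T} {φ : Q →* Ω} (h : Rep E a φ) (hPQ : P ≤ Q) (χ : P →* Ω)
    (hχ : ∀ x : P, χ x = φ ⟨x, hPQ x.2⟩) : Rep E a χ := by
  obtain ⟨φ₀, hφ₀, hx⟩ := h
  exact ⟨_, restrict_mem hφ₀ hPQ, fun x hx' => (hχ x).trans (hx ⟨x, hPQ x.2⟩ hx')⟩

theorem Rep.mem_top {a : MulAut T} {φ : P →* Ω} (h : Rep E a φ) (x : P) : φ x ∈ T := by
  obtain ⟨φ₀, hφ₀, hx⟩ := h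
  rw [hx x (map_mem hφ₀ x)]
  exact (a _).2

/-- Composition multiplies the automorphisms. -/
theorem Rep.comp (hinv : IsAutInvariant E F) {a b : MulAut T} (ha : a ∈ F.autGroup T) {φ : P →* Ω}
    {ψ : Q →* Ω} (hφQ : ∀ x, φ x ∈ Q) (χ : P →* Ω) (hχ : ∀ x, χ x = ψ ⟨φ x, hφQ x⟩)
    (h₁ : Rep E a φ) (h₂ : Rep E b ψ) : Rep E (b * a) χ := by
  obtain ⟨φ₀, hφ₀, hφx⟩ := h₁
  obtain ⟨ψ₀, hψ₀, hψx⟩ := h₂
  obtain ⟨η, hη, hηx⟩ := autInvariant_conj hinv hψ₀ ((F.autGroup T).inv_mem ha)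
  have hm : ∀ x, φ₀ x ∈ (Q.subgroupOf T).map (T.subtype.comp (a⁻¹ : MulAut T).toMonoidHom) := by
    intro x
    rw [autImage_eq _ (dom_le hψ₀)]
    refine ⟨⟨φ x, hφQ x⟩, ?_⟩
    have h1 : (⟨φ x, dom_le hψ₀ (hφQ x)⟩ : T) = a ⟨φ₀ x, map_mem hφ₀ x⟩ :=
      Subtype.ext (hφx x (map_mem hφ₀ x))
    rw [h1, MulAut.inv_apply_self]
  refine ⟨_, E.comp_mem hφ₀ hη hm, fun x hx => ?_⟩
  rw [hχ x, hψx ⟨φ x, hφQ x⟩ (map_mem hψ₀ _)]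
  show _ = ((b (a ⟨_, hx⟩) : T) : Ω)
  congr 2
  have h1 : ((a⁻¹ : MulAut T) ⟨φ x, dom_le hψ₀ (hφQ x)⟩ : Ω) = φ₀ x := by
    have h2 : (⟨φ x, dom_le hψ₀ (hφQ x)⟩ : T) = a ⟨φ₀ x, map_mem hφ₀ x⟩ :=
      Subtype.ext (hφx x (map_mem hφ₀ x))
    rw [h2, MulAut.inv_apply_self]
  have h3 := hηx ⟨φ x, hφQ x⟩ (h1.symm ▸ hm x)
  have h4 : (⟨η ⟨φ₀ x, hm x⟩, map_mem hη _⟩ : T) =
      (a⁻¹ : MulAut T) ⟨ψ₀ ⟨φ x, hφQ x⟩, map_mem hψ₀ _⟩ := by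
    refine Subtype.ext (Eq.trans ?_ h3)
    exact congrArg η (Subtype.ext h1.symm)
  have h5 : (⟨_, hx⟩ : T) = ⟨η ⟨φ₀ x, hm x⟩, map_mem hη _⟩ := rfl
  rw [h5, h4, MulAut.apply_inv_self]

/-- Inversion inverts the automorphism. -/
theorem Rep.inv (hinv : IsAutInvariant E F) {a : MulAut T} (ha : a ∈ F.autGroup T) {φ : P →* Ω}
    (h : Rep E a φ) {ψ : φ.range →* Ω} (hψ : ∀ x : P, ψ ⟨φ x, ⟨x, rfl⟩⟩ = (x : Ω)) :
    Rep E a⁻¹ ψ := by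
  obtain ⟨φ₀, hφ₀, hφx⟩ := h
  obtain ⟨θ, hθ, hθinv⟩ := E.inv_mem hφ₀
  obtain ⟨η, hη, hηx⟩ := autInvariant_conj hinv hθ ha
  have hle : φ.range ≤ (φ₀.range.subgroupOf T).map (T.subtype.comp a.toMonoidHom) := by
    rintro _ ⟨x, rfl⟩
    rw [autImage_eq _ (dom_le hθ)]
    exact ⟨⟨_, x, rfl⟩, (hφx x _).symm⟩
  refine ⟨_, restrict_mem hη hle, ?_⟩
  rintro ⟨_, x, rfl⟩ hx
  have hxP : (x : Ω) ∈ T := dom_le hφ₀ x.2
  have hax : ((a ⟨φ₀ x, map_mem hφ₀ x⟩ : T) : Ω) ∈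
      (φ₀.range.subgroupOf T).map (T.subtype.comp a.toMonoidHom) := by
    rw [← hφx x]; exact hle ⟨x, rfl⟩
  have h1 := hηx ⟨φ₀ x, x, rfl⟩ hax
  simp only [hθinv] at h1
  have h2 : (⟨_, hx⟩ : T) = a ⟨(x : Ω), hxP⟩ :=
    Subtype.ext ((congrArg η (Subtype.ext (hφx x (map_mem hφ₀ x)))).trans h1)
  rw [h2, MulAut.inv_apply_self]
  exact hψ x

/-- Two representations differ by an automorphism which is in `E` on an `E`-image. -/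
theorem Rep.ratio {a b : MulAut T} {φ : W →* Ω} (ha : Rep E a φ) (hb : Rep E b φ) :
    ∃ W' : Subgroup Ω, E.IsConj W W' ∧ ∃ hle : W' ≤ T,
      (T.subtype.comp (a⁻¹ * b).toMonoidHom).comp (Subgroup.inclusion hle) ∈ E.Hom W' := by
  obtain ⟨e₁, he₁, h1⟩ := ha
  obtain ⟨e₂, he₂, h2⟩ := hb
  obtain ⟨θ, hθ, hθx⟩ := E.inv_mem he₂
  have hm : ∀ y, θ y ∈ W := by
    rintro ⟨_, x, rfl⟩
    rw [hθx]; exact x.2
  refine ⟨e₂.range, isConj_of_mem he₂, range_le he₂, mem_of_comp hθ he₁ hm _ ?_⟩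
  rintro ⟨_, x, rfl⟩
  have h3 : b ⟨e₂ x, map_mem he₂ x⟩ = a ⟨e₁ x, map_mem he₁ x⟩ :=
    Subtype.ext ((h2 x _).symm.trans (h1 x _))
  show (((a⁻¹ * b : MulAut T) ⟨e₂ x, _⟩ : T) : Ω) = e₁ ⟨θ ⟨e₂ x, _⟩, _⟩
  rw [MulAut.mul_apply, h3, MulAut.inv_apply_self]
  exact congrArg e₁ (Subtype.ext (hθx x).symm)

/-- `E` is preserved by the automorphism `a` of an overgroup `S`. -/
def Pres (E : Cfsg.FusionSystem T) (a : MulAut S) : Prop :=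
  ∀ (P : Subgroup Ω) (φ : P →* Ω), φ ∈ E.Hom P → ∃ χ ∈ E.Hom (autImg a P),
    ∀ (x : P) (hx : (x : Ω) ∈ S) (hφ : φ x ∈ S) (hax : ((a ⟨x, hx⟩ : S) : Ω) ∈ autImg a P),
      χ ⟨_, hax⟩ = ((a ⟨φ x, hφ⟩ : S) : Ω)

theorem Pres.mem (hTS : T ≤ S) {a : MulAut S} (h : Pres E a) {x : Ω} (hx : x ∈ T) :
    ((a ⟨x, hTS hx⟩ : S) : Ω) ∈ T := by
  obtain ⟨χ, hχ, -⟩ := h T _ (subtype_mem E le_rfl)
  exact dom_le hχ (mem_autImg.2 ⟨⟨x, hTS hx⟩, hx, rfl⟩)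

/-- `F` is invariant in itself. -/
theorem isInvariantIn_self [Finite S] (F : Cfsg.FusionSystem S) : F.IsInvariantIn F := by
  refine ⟨fun _ => subset_rfl, ⟨le_rfl, fun R _ φ hφ x => map_mem hφ x⟩, ?_, fun P _ φ hφ =>
    factors_of_mem le_rfl hφ⟩
  intro P hPS φ hφ a ha
  obtain ⟨e, he, hex⟩ := exists_autIso (P := P) ha hPS
  refine ⟨_, mem_of_comp he.symm (mem_of_comp hφ ((mem_autGroup_iff_hom le_rfl).1 ha) (map_mem hφ)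
      ((S.subtype.comp a.toMonoidHom).comp (φ.codRestrict S (map_mem hφ))) fun _ => rfl)
      (fun y => (e.symm y).2) ((((S.subtype.comp a.toMonoidHom).comp
        (φ.codRestrict S (map_mem hφ)))).comp e.symm.toMonoidHom) fun _ => rfl, fun x hφx hax => ?_⟩
  show ((a ⟨φ (e.symm ⟨_, hax⟩), _⟩ : S) : Ω) = _
  have : e.symm ⟨_, hax⟩ = x := e.injective (by
    rw [MulEquiv.apply_symm_apply]; exact Subtype.ext (hex x).symm)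
  simp [this]

/-- A subsystem invariant in an invariant subsystem and preserved by `Aut_F(S')` is invariant. -/
theorem isInvariantIn_of_char [Finite S] [Fact p.Prime] (hS : IsPGroup p S) (hF : F.IsSaturated p)
    {U U' : Subgroup Ω} {D : Cfsg.FusionSystem U} {D' : Cfsg.FusionSystem U'}
    (hD : D.IsInvariantIn F) (hD' : D'.IsInvariantIn D)
    (hP : ∀ a ∈ F.autGroup U, Pres D' a) : D'.IsInvariantIn F := by
  have hU : U' ≤ U := hD'.2.1.1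
  have hclosed : F.StronglyClosed U' := by
    refine ⟨hU.trans hD.2.1.1, fun R hR φ hφ x => ?_⟩
    obtain ⟨a, ha, φ₀, hφ₀, hx⟩ := hD.2.2.2 R (hR.trans hU) φ hφ
    rw [hx x (map_mem hφ₀ x)]
    exact (hP a ha).mem hU (hD'.2.1.2 R hR φ₀ hφ₀ x)
  refine (isInvariantIn_iff_stronglyInvariant hS hF (fun P φ h => hD.1 P (hD'.1 P h)) hclosed).2 ?_
  intro P Q hPQ hQU φ hφ hφQ ψ hψ
  obtain ⟨a, ha, ψ₀, hψ₀, hψx⟩ := hD.2.2.2 Q (hQU.trans hU) ψ hψ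
  obtain ⟨χ₀, hχ₀, hχ₀x⟩ := stronglyInvariant_of_isInvariantIn hD' P Q hPQ hQU φ hφ hφQ ψ₀ hψ₀
  obtain ⟨χ, hχ, hχx⟩ := hP a ha _ χ₀ hχ₀
  have hle : (P.subgroupOf Q).map ψ ≤ autImg a ((P.subgroupOf Q).map ψ₀) := by
    rintro _ ⟨x, hx, rfl⟩
    exact mem_autImg.2 ⟨⟨ψ₀ x, map_mem hψ₀ x⟩, ⟨x, hx, rfl⟩, (hψx x _).symm⟩
  refine ⟨_, restrict_mem hχ hle, fun x hx => ?_⟩
  have hy : ψ₀ (Subgroup.inclusion hPQ x) ∈ (P.subgroupOf Q).map ψ₀ :=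
    apply_mem_map_subgroupOf _ x.2
  have hv := hχ₀x x hy
  have h1 := hχx ⟨_, hy⟩ (map_mem hψ₀ _) (hv ▸ map_mem hψ₀ _) (by rw [← hψx]; exact hle hx)
  refine Eq.trans (congrArg χ (Subtype.ext ?_)) (h1.trans ?_)
  · exact hψx (Subgroup.inclusion hPQ x) (map_mem hψ₀ _)
  rw [hψx ⟨φ x, hφQ x⟩ (map_mem hψ₀ _)]
  exact congrArg (fun t : U => ((a t : U) : Ω)) (Subtype.ext hv)

/-- An invariant subsystem stays invariant in an intermediate saturated system. -/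
theorem isInvariantIn_of_le {U : Subgroup Ω} [Finite U] [Fact p.Prime] {D : Cfsg.FusionSystem U}
    (hU : IsPGroup p U) (hDs : D.IsSaturated p) (hDF : D.IsSubsystemOf F)
    (hinv : E.IsInvariantIn F) (hED : E.IsSubsystemOf D) : E.IsInvariantIn D := by
  have hTU : T ≤ U := fun x hx => map_mem (hED T (subtype_mem E le_rfl)) ⟨x, hx⟩
  refine (isInvariantIn_iff_stronglyInvariant hU hDs hED
    ⟨hTU, fun R hR φ hφ => hinv.2.1.2 R hR φ (hDF R hφ)⟩).2 ?_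
  intro P Q hPQ hQT φ hφ hφQ ψ hψ
  exact stronglyInvariant_of_isInvariantIn hinv P Q hPQ hQT φ hφ hφQ ψ (hDF Q hψ)

end CfsgLib.Fusion.Envelope
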