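import Cfsg.Agent.Lib.Fusion.Envelope.Main
import Cfsg.Agent.Lib.FusionQuot.ModExtension
import Cfsg.Agent.Lib.Fusion.Local
import Cfsg.Agent.S5293

/-!
# With small centralizer the envelope has `p`-power index over `E`
-/

set_option autoImplicit false

namespace CfsgLib.Fusion.Envelope

open Cfsg Cfsg.FusionSystem CfsgLib.Fusion

variable {Ω : Type*} [Group Ω] {S T : Subgroup Ω} {F : Cfsg.FusionSystem S} {E : Cfsg.FusionSystem T}
variable {p : ℕ}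

/-- The maps of the envelope are congruent to the identity modulo `T`. -/
theorem disp_mem [Finite S] [Fact p.Prime] (hS : IsPGroup p S) (hF : F.IsSaturated p)
    (hE : E.IsNormalIn F p)
    (hCE : ∀ Y : Subgroup Ω, Y ≤ centralizerIn S T → (∀ C : Cfsg.FusionSystem (centralizerIn S Y),
      F.IsCentralizerSystem Y C → E.IsSubsystemOf C) → Y ≤ T)
    {F₀ : Cfsg.FusionSystem (T ⊔ centralizerIn S T)} (h₀ : Stage F E p F₀)
    (hA : F₀.autGroup T = E.autGroup T) {P : Subgroup Ω} {φ : P →* Ω} (hφ : φ ∈ F₀.Hom P) (x : P) :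
    (x : Ω)⁻¹ * φ x ∈ T := by
  have hinv := hE.1.2.2
  have hTS : T ≤ S := hinv.2.1.1
  set C := centralizerIn S T with hC
  set U := T ⊔ C with hU
  have hTU : T ≤ U := le_sup_left
  have hUS : U ≤ S := sup_le hTS (centralizerIn_le S T)
  have : Finite U := finite_of_le hUS
  have : Finite T := finite_of_le hTS
  have hUp : IsPGroup p U := hS.to_le hUS
  have hinv₀ := isInvariantIn_of_le hUp h₀.sat h₀.inv.1 hinv h₀.le
  obtain ⟨χ, hχ, hag⟩ := CfsgLib.FusionQuot.exists_extendsMod hUp h₀.sat hinv₀.2.1 P φ hφ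
  set xR : ↥(P ⊔ T) := Subgroup.inclusion le_sup_left x with hxR
  suffices h : (x : Ω)⁻¹ * χ xR ∈ T by
    have h1 := T.mul_mem h (T.inv_mem (hag x))
    have e : (x : Ω)⁻¹ * χ xR * ((φ x)⁻¹ * χ xR)⁻¹ = (x : Ω)⁻¹ * φ x := by group
    exact e ▸ h1
  -- the action on `T`
  have hχT : ∀ z : T, χ (Subgroup.inclusion le_sup_right z) ∈ T := fun z =>
    stronglyClosed_apply_mem hinv₀.2.1 hχ _ z.2
  obtain ⟨a, ha, hax⟩ := exists_aut (restrict_mem hχ (le_sup_right : T ≤ P ⊔ T))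
    (range_eq_of_le (hom_inj (restrict_mem hχ le_sup_right)) hχT)
  rw [hA] at ha
  obtain ⟨β, hβ, hβx, hβc⟩ := hE.2 a⁻¹ ((E.autGroup T).inv_mem ha)
  have hβF := (mem_autGroup_iff_hom hUS).1 hβ
  have hχU : ∀ z, χ z ∈ U := map_mem hχ
  set γ := (U.subtype.comp β.toMonoidHom).comp (χ.codRestrict U hχU) with hγdef
  have hγ : γ ∈ F.Hom (P ⊔ T) := F.comp_mem (h₀.inv.1 _ hχ) hβF hχU
  have hfix : ∀ (z : T) (hz : (z : Ω) ∈ P ⊔ T), γ ⟨z, hz⟩ = (z : Ω) := by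
    intro z hz
    show ((β ⟨χ ⟨z, hz⟩, _⟩ : U) : Ω) = z
    rw [show (⟨χ ⟨z, hz⟩, hχU _⟩ : U) = Subgroup.inclusion hTU (a z) from
      Subtype.ext (hax z).symm]
    refine (hβx (a z)).trans ?_
    rw [MulAut.inv_apply_self]
  -- `χ` preserves the centralizer
  have hχC : ∀ z : ↥(P ⊔ T), (z : Ω) ∈ C → χ z ∈ C := by
    intro z hz
    refine ⟨hUS (hχU z), Subgroup.mem_centralizer_iff.2 fun y hy => ?_⟩
    obtain ⟨w, hw⟩ := a.surjective ⟨y, hy⟩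
    have hy' : y = χ (Subgroup.inclusion le_sup_right w) := by
      rw [show y = ((a w : T) : Ω) by rw [hw], hax]; rfl
    rw [hy', ← map_mul, ← map_mul]
    exact congrArg χ (Subtype.ext (Subgroup.mem_centralizer_iff.1 hz.2 w w.2))
  -- decomposition
  have hxU : (x : Ω) ∈ (↑(T ⊔ C) : Set Ω) := dom_le hφ x.2
  rw [Subgroup.coe_mul_of_left_le_normalizer_right _ _ (fun t ht => Subgroup.mem_normalizer_iff.2 fun c =>
    ⟨fun hc => conj_mem_centralizer t ht hc, fun hc => by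
      simpa [mul_assoc] using conj_mem_centralizer t⁻¹ (T.inv_mem ht) hc⟩)] at hxU
  obtain ⟨t, ht, c, hc, htc⟩ := hxU
  have htc' : t * c = (x : Ω) := htc
  have htR : t ∈ P ⊔ T := Subgroup.mem_sup_right ht
  have hcR : c ∈ P ⊔ T := by
    have := (P ⊔ T).mul_mem ((P ⊔ T).inv_mem htR) xR.2
    rwa [show t⁻¹ * (xR : Ω) = c by show t⁻¹ * (x : Ω) = c; rw [← htc']; group] at this
  -- the map of the centralizer system
  set Y := (P ⊔ T) ⊓ C with hY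
  have hYR : Y ⊔ T ≤ P ⊔ T := sup_le inf_le_left le_sup_right
  set ε := γ.comp (Subgroup.inclusion (inf_le_left : Y ≤ P ⊔ T)) with hε
  have hγC : ∀ z : ↥(P ⊔ T), (z : Ω) ∈ C → γ z ∈ C := by
    intro z hz
    refine ⟨map_mem hγ z, Subgroup.mem_centralizer_iff.2 fun y hy => ?_⟩
    have hyR : y ∈ P ⊔ T := Subgroup.mem_sup_right hy
    have e : γ ⟨y, hyR⟩ = y := hfix ⟨y, hy⟩ hyR
    rw [← e, ← map_mul, ← map_mul]
    exact congrArg γ (Subtype.ext (Subgroup.mem_centralizer_iff.1 hz.2 y hy))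
  set Dsys := centralizerSystem F T hTS
  have hεD : ε ∈ Dsys.Hom Y := by
    rw [isCentralizerSystem_centralizerSystem F T hTS Y]
    exact ⟨restrict_mem hγ inf_le_left, inf_le_right, fun z => hγC _ z.2.2,
      _, restrict_mem hγ hYR, fun z => rfl, fun z => hfix z _⟩
  have hfocal : c⁻¹ * γ ⟨c, hcR⟩ ∈ Dsys.focalSubgroup :=
    Subgroup.subset_closure ⟨Y, ε, ⟨c, hcR, hc⟩, hεD, rfl⟩
  have hle : Dsys.focalSubgroup ≤ T :=
    (Cfsg.Agent.S5293.result p hS F hF E hE _ rfl Dsys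
      (isCentralizerSystem_centralizerSystem F T hTS)).trans
      (sSup_le fun X hX => hCE X hX.1 fun C' hC' P => by rw [hC' P]; exact hX.2 P)
  have h1 : c⁻¹ * γ ⟨c, hcR⟩ ∈ T := hle hfocal
  have hχc := hχC ⟨c, hcR⟩ hc
  have h2 : (χ ⟨c, hcR⟩)⁻¹ * γ ⟨c, hcR⟩ ∈ T := (hβc ⟨χ ⟨c, hcR⟩, hχU _⟩ hχc).1
  have h3 : c⁻¹ * χ ⟨c, hcR⟩ ∈ T := by
    have := T.mul_mem h1 (T.inv_mem h2)
    have e : c⁻¹ * γ ⟨c, hcR⟩ * ((χ ⟨c, hcR⟩)⁻¹ * γ ⟨c, hcR⟩)⁻¹ = c⁻¹ * χ ⟨c, hcR⟩ := by group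
    exact e ▸ this
  have hat : t⁻¹ * χ ⟨t, htR⟩ ∈ T :=
    T.mul_mem (T.inv_mem ht) (hχT ⟨t, ht⟩)
  have hsplit : χ xR = χ ⟨t, htR⟩ * χ ⟨c, hcR⟩ := by
    rw [← map_mul]; exact congrArg χ (Subtype.ext htc'.symm)
  have hcomm := Subgroup.mem_centralizer_iff.1 hc.2 _ hat
  have e : (x : Ω)⁻¹ * χ xR = t⁻¹ * χ ⟨t, htR⟩ * (c⁻¹ * χ ⟨c, hcR⟩) := by
    rw [hsplit, ← htc']
    calc (t * c)⁻¹ * (χ ⟨t, htR⟩ * χ ⟨c, hcR⟩)
        = c⁻¹ * (t⁻¹ * χ ⟨t, htR⟩ * c) * (c⁻¹ * χ ⟨c, hcR⟩) := by group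
      _ = c⁻¹ * (c * (t⁻¹ * χ ⟨t, htR⟩)) * (c⁻¹ * χ ⟨c, hcR⟩) := by rw [hcomm]
      _ = _ := by group
  exact e ▸ T.mul_mem hat h3
where
  conj_mem_centralizer (t : Ω) (ht : t ∈ T) {c : Ω} (hc : c ∈ centralizerIn S T) :
      t * c * t⁻¹ ∈ centralizerIn S T := by
    rw [Subgroup.mem_centralizer_iff.1 hc.2 t ht, mul_inv_cancel_right]
    exact hc

/-- With small centralizer the residual limits of `E` are those of the envelope. -/
theorem limit_iff_small [Finite S] [Fact p.Prime] (hS : IsPGroup p S) (hF : F.IsSaturated p)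
    (hE : E.IsNormalIn F p)
    (hCE : ∀ Y : Subgroup Ω, Y ≤ centralizerIn S T → (∀ C : Cfsg.FusionSystem (centralizerIn S Y),
      F.IsCentralizerSystem Y C → E.IsSubsystemOf C) → Y ≤ T)
    {F₀ : Cfsg.FusionSystem (T ⊔ centralizerIn S T)} (h₀ : Stage F E p F₀)
    (hA : F₀.autGroup T = E.autGroup T) {V : Subgroup Ω} (L : Cfsg.FusionSystem V) :
    L.IsResidualLimitOf F₀ p ↔ L.IsResidualLimitOf E p := by
  have hinv := hE.1.2.2
  have hTS : T ≤ S := hinv.2.1.1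
  have hUS : T ⊔ centralizerIn S T ≤ S := sup_le hTS (centralizerIn_le S T)
  have : Finite ↥(T ⊔ centralizerIn S T) := finite_of_le hUS
  have : Finite T := finite_of_le hTS
  have hUp : IsPGroup p ↥(T ⊔ centralizerIn S T) := hS.to_le hUS
  have hhyp : F₀.hyperfocalSubgroup p ≤ T := by
    refine (Subgroup.closure_le _).2 ?_
    rintro _ ⟨P, α, x, hP, -, rfl⟩
    exact disp_mem hS hF hE hCE h₀ hA ((mem_autGroup_iff_hom hP).1 α.2) x
  obtain ⟨D, hDs, hDi, -⟩ := PPowerIndex.exists_pPowerIndex hUp h₀.sat le_sup_left hhyp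
  have hED : E.IsSubsystemOf D :=
    PPowerIndex.le_of_hasPPowerIndexIn hUp le_sup_left hE.1.1 h₀.le le_rfl hDi
  have hinvD := isInvariantIn_of_le (F := F) (hS.to_le hTS) hDs
    (fun P => (hDi.1 P).trans (h₀.inv.1 P)) hinv hED
  obtain rfl : D = E := PPowerIndex.eq_of_hom fun P => subset_antisymm (fun φ hφ => by
    obtain ⟨α, hα, φ₀, hφ₀, hx⟩ := hinvD.2.2.2 P (dom_le hφ) φ hφ
    have hαE : α ∈ E.autGroup T :=
      hA ▸ CfsgLib.FusionQuot.autGroup_le_of_subsystem hDi.1 T hα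
    exact mem_of_comp hφ₀ ((mem_autGroup_iff_hom le_rfl).1 hαE) (map_mem hφ₀) φ fun x =>
      hx x (map_mem hφ₀ x)) (hED P)
  exact limit_iff_pPower hUp h₀.sat le_sup_left hDs hDi

end CfsgLib.Fusion.Envelope
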